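import Groth.Prelude.Def_FibSite
import Mathlib.CategoryTheory.Sites.CoverPreserving
import Mathlib.CategoryTheory.Sites.InducedTopology
import Mathlib.CategoryTheory.Sites.LocallyInjective
import Mathlib.CategoryTheory.Sites.ConcreteSheafification

/-!
# The total topology of a pre-fibred site
-/

set_option autoImplicit false
set_option backward.isDefEq.respectTransparency false
set_option backward.isDefEq.respectTransparency.types false
set_option backward.defeqAttrib.useBackward true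

universe w v₃ u₃ v₂ u₂ v₁ u₁

open CategoryTheory Opposite Bicategory Pseudofunctor Pseudofunctor.CoGrothendieck

noncomputable section

namespace Groth.Agent.H14FibSite

variable {𝒮 : Type u₁} [Category.{v₁} 𝒮] {F : Pseudofunctor (LocallyDiscrete 𝒮ᵒᵖ) Cat.{v₂, u₂}}

abbrev cl {R S : 𝒮} (b : R ⟶ S) (U : F.obj ⟨op S⟩) :
    (ι F R).obj ((FibSite.invImage F b).obj U) ⟶ (ι F S).obj U :=
  cartesianLift U b

lemma factor {X Y : ∫ᶜ F} (f : X ⟶ Y) :
    f = (ι F X.base).map (Y := (FibSite.invImage F f.base).obj Y.fiber) f.fiber ≫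
      cl f.base Y.fiber := by
  refine Pseudofunctor.CoGrothendieck.Hom.ext _ _ ?_ ?_
  · simp
  · simp [F.mapComp_id_right_inv_app, Strict.rightUnitor_eqToIso, PrelaxFunctor.map₂_eqToHom,
      ← Cat.Hom₂.comp_app]

lemma cl_naturality {R S : 𝒮} (b : R ⟶ S) {W U : F.obj ⟨op S⟩} (r : W ⟶ U) :
    (ι F R).map ((FibSite.invImage F b).map r) ≫ cl b U = cl b W ≫ (ι F S).map r := by
  refine Pseudofunctor.CoGrothendieck.Hom.ext _ _ ?_ ?_
  · simp
  · simp [F.mapComp_id_right_inv_app, F.mapComp_id_left_inv_app, Strict.rightUnitor_eqToIso,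
      Strict.leftUnitor_eqToIso, PrelaxFunctor.map₂_eqToHom, ← Cat.Hom₂.comp_app]
    have h : (FibSite.invImage F b).map ((F.mapId ⟨op S⟩).inv.toNatTrans.app U) ≫
        (FibSite.invImage F b).map ((F.mapId ⟨op S⟩).hom.toNatTrans.app U) = 𝟙 _ :=
      (Functor.map_comp _ _ _).symm.trans ((congrArg _
        ((Cat.Hom.toNatIso (F.mapId ⟨op S⟩)).inv_hom_id_app U)).trans
          (CategoryTheory.Functor.map_id _ _))
    erw [reassoc_of% h]

lemma exists_eq_map {S : 𝒮} {V W : F.obj ⟨op S⟩} (h : (ι F S).obj V ⟶ (ι F S).obj W)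
    (hb : h.base = 𝟙 S) : ∃ h' : V ⟶ W, (ι F S).map h' = h := by
  obtain ⟨b, φ⟩ := h
  dsimp at hb
  subst hb
  refine ⟨φ ≫ (F.mapId ⟨op S⟩).hom.toNatTrans.app W, ?_⟩
  refine Pseudofunctor.CoGrothendieck.Hom.ext _ _ rfl ?_
  simp [← Cat.Hom₂.comp_app]

lemma map_injective {S : 𝒮} {V W : F.obj ⟨op S⟩} {g h : V ⟶ W}
    (e : (ι F S).map g = (ι F S).map h) : g = h := by
  have := Pseudofunctor.CoGrothendieck.Hom.congr e
  simpa [cancel_mono, ← Cat.Hom.toNatIso_hom, ← Cat.Hom.toNatIso_inv] using this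

variable {J : FibSite.Topologies F}

lemma pullback_mem (hF : FibSite.IsPreFibSite F J) {X Y : ∫ᶜ F} (f : X ⟶ Y) {R : Sieve Y.fiber}
    (hR : R ∈ J Y.base Y.fiber) :
    ∃ T ∈ J X.base X.fiber, ∀ ⦃V : F.obj ⟨op X.base⟩⦄ (g : V ⟶ X.fiber), T g →
      ∃ (W : F.obj ⟨op Y.base⟩) (r : W ⟶ Y.fiber) (_ : R r)
        (h : V ⟶ (FibSite.invImage F f.base).obj W),
        g ≫ f.fiber = h ≫ (FibSite.invImage F f.base).map r ∧
        (ι F X.base).map g ≫ f = ((ι F X.base).map h ≫ cl f.base W) ≫ (ι F Y.base).map r := by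
  have := hF f.base
  refine ⟨_, (J X.base).pullback_stable f.fiber
    ((CoverPreserving.of_isContinuous (FibSite.invImage F f.base) (J Y.base) (J X.base)).cover_preserve
      hR), fun V g ⟨W, r, h, hr, e⟩ => ⟨W, r, hr, h, e, ?_⟩⟩
  conv_lhs => rw [factor f]
  rw [← Functor.map_comp_assoc, e, Functor.map_comp, Category.assoc, Category.assoc, cl_naturality]

/-- The topology of sieves containing the image of a covering sieve of the fibre. -/
def fibTop (hF : FibSite.IsPreFibSite F J) : GrothendieckTopology (∫ᶜ F) where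
  sieves X := {S | Sieve.functorPullback (ι F X.base) (X := X.fiber) S ∈ J X.base X.fiber}
  top_mem' X := (J X.base).top_mem X.fiber
  pullback_stable' Y X S f hS := by
    obtain ⟨T, hT, h⟩ := pullback_mem hF f hS
    refine (J X.base).superset_covering (fun V g hg => ?_) hT
    obtain ⟨W, r, hr, k, _, e⟩ := h g hg
    show S ((ι F X.base).map g ≫ f)
    rw [e]
    exact S.downward_closed hr _
  transitive' X S hS R hR := by
    refine (J X.base).transitive hS _ fun V r hr => ?_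
    refine (J X.base).superset_covering (fun Z g hg => ?_) (hR hr)
    show R ((ι F X.base).map (g ≫ r))
    rw [Functor.map_comp]
    exact hg

lemma totalTopology_eq (hF : FibSite.IsPreFibSite F J) : FibSite.totalTopology F J = fibTop hF := by
  refine le_antisymm (FibSite.totalTopology_le fun S U R hR => ?_) fun X S hS => ?_
  · exact (J S).superset_covering (Sieve.le_functorPushforward_pullback _ R) hR
  · refine (FibSite.totalTopology F J).superset_covering ?_
      (FibSite.functorPushforward_mem_totalTopology (S := X.base) (U := X.fiber) hS)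
    exact (Sieve.functor_galoisConnection (ι F X.base) X.fiber).l_le le_rfl

lemma mem_total_iff (hF : FibSite.IsPreFibSite F J) {X : ∫ᶜ F} {S : Sieve X} :
    S ∈ FibSite.totalTopology F J X ↔
      Sieve.functorPullback (ι F X.base) (X := X.fiber) S ∈ J X.base X.fiber := by
  rw [totalTopology_eq hF]
  exact Iff.rfl

lemma isSeparated_restr {P : (∫ᶜ F)ᵒᵖ ⥤ Type w}
    (hP : Presieve.IsSheaf (FibSite.totalTopology F J) P) (S : 𝒮) :
    Presieve.IsSeparated (J S) ((ι F S).op ⋙ P) := by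
  intro U R hR x t₁ t₂ h₁ h₂
  refine ((hP _ (FibSite.functorPushforward_mem_totalTopology hR)).isSeparatedFor).ext ?_
  rintro Z g ⟨W, r, h, hr, rfl⟩
  simp only [op_comp, Functor.map_comp, ConcreteCategory.comp_apply]
  exact congrArg _ ((h₁ r hr).trans (h₂ r hr).symm)

section Push

variable {C : Type u₂} [Category.{v₂} C] {D : Type u₂} [Category.{v₂} D]

/-- Elements of the formal image of a sieve along a functor. -/
structure El (G : C ⥤ D) {U : C} (T : Sieve U) (V : D) : Type (max u₂ v₂) where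
  W : C
  r : W ⟶ U
  mem : T r
  ψ : V ⟶ G.obj W

def El.Rel {G : C ⥤ D} {U : C} {T : Sieve U} {V : D} (a b : El G T V) : Prop :=
  ∃ g : a.W ⟶ b.W, g ≫ b.r = a.r ∧ a.ψ ≫ G.map g = b.ψ

/-- The formal image of a sieve along a functor. -/
@[simps]
def push (G : C ⥤ D) {U : C} (T : Sieve U) : Dᵒᵖ ⥤ Type (max u₂ v₂) where
  obj V := Quot (El.Rel (G := G) (T := T) (V := V.unop))
  map {V V'} k := TypeCat.ofHom (Quot.map (fun a => ⟨a.W, a.r, a.mem, k.unop ≫ a.ψ⟩)
    fun a b ⟨g, h₁, h₂⟩ => ⟨g, h₁, by rw [Category.assoc, h₂]⟩)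
  map_id V := by
    ext ⟨a⟩
    simp [Quot.map]
  map_comp k k' := by
    ext ⟨a⟩
    simp [Quot.map]

/-- A continuous functor identifies, locally, two ways of factoring through a covering sieve. -/
lemma exists_cover_push_eq (J₁ : GrothendieckTopology C) (J₂ : GrothendieckTopology D) (G : C ⥤ D)
    [G.IsContinuous J₁ J₂] {U : C} {T : Sieve U} (hT : T ∈ J₁ U) {V : D} (a b : El G T V)
    (e : a.ψ ≫ G.map a.r = b.ψ ≫ G.map b.r) :
    ∃ M ∈ J₂ V, ∀ ⦃Z : D⦄ (k : Z ⟶ V), M k →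
      (push G T).map k.op (Quot.mk _ a) = (push G T).map k.op (Quot.mk _ b) := by
  let η := toSheafify J₂ (push G T)
  have hG : Presieve.IsSheaf J₂ (sheafify J₂ (push G T)) :=
    (isSheaf_iff_isSheaf_of_type _ _).1 ((presheafToSheaf J₂ _).obj (push G T)).2
  let y : Presieve.FamilyOfElements (G.op ⋙ sheafify J₂ (push G T)) T.arrows := fun W r hr =>
    η.app (op (G.obj W)) (Quot.mk _ ⟨W, r, hr, 𝟙 _⟩)
  have hy : y.Compatible := fun Y₁ Y₂ Z g₁ g₂ f₁ f₂ k₁ k₂ eq => by
    show (sheafify J₂ (push G T)).map _ (η.app _ _) = (sheafify J₂ (push G T)).map _ (η.app _ _)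
    rw [← NatTrans.naturality_apply, ← NatTrans.naturality_apply]
    congr 1
    have h₁ : Quot.mk (El.Rel (G := G) (T := T) (V := G.obj Z))
        ⟨Z, g₁ ≫ f₁, T.downward_closed k₁ g₁, 𝟙 _⟩ = Quot.mk _ ⟨Y₁, f₁, k₁, G.map g₁⟩ :=
      Quot.sound ⟨g₁, rfl, Category.id_comp _⟩
    have h₂ : Quot.mk (El.Rel (G := G) (T := T) (V := G.obj Z))
        ⟨Z, g₁ ≫ f₁, T.downward_closed k₁ g₁, 𝟙 _⟩ = Quot.mk _ ⟨Y₂, f₂, k₂, G.map g₂⟩ :=
      Quot.sound ⟨g₂, eq.symm, Category.id_comp _⟩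
    simp only [push_map, Quot.map, Functor.op_map, Quiver.Hom.unop_op, Category.comp_id]
    show Quot.mk _ (El.mk Y₁ f₁ k₁ (G.map g₁ ≫ 𝟙 _)) = Quot.mk _ (El.mk Y₂ f₂ k₂ (G.map g₂ ≫ 𝟙 _))
    simpa only [Category.comp_id] using h₁.symm.trans h₂
  have hs := Functor.op_comp_isSheaf_of_isSheaf_type G J₁ hG T hT
  have key (c : El G T V) : η.app (op V) (Quot.mk _ c) =
      (sheafify J₂ (push G T)).map (c.ψ ≫ G.map c.r).op (hs.amalgamate y hy) := by
    rw [op_comp (f := c.ψ), Functor.map_comp, ConcreteCategory.comp_apply]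
    erw [hs.valid_glue hy c.r c.mem]
    show _ = (sheafify J₂ (push G T)).map c.ψ.op (η.app _ _)
    rw [← NatTrans.naturality_apply]
    simp [Quot.map]
  exact ⟨Presheaf.equalizerSieve (F := push G T) (X := op V) (Quot.mk _ a) (Quot.mk _ b),
    Presheaf.equalizerSieve_mem J₂ η (X := op V) _ _ (by rw [key a, key b, e]), fun Z k hk => hk⟩

end Push

/-- Compatibility across the fibre inclusion, for sheaves on the total site. -/
lemma compatible_of_eq (hF : FibSite.IsPreFibSite F J) {P : (∫ᶜ F)ᵒᵖ ⥤ Type w}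
    (hP : Presieve.IsSheaf (FibSite.totalTopology F J) P) {S R : 𝒮} (b : R ⟶ S)
    {U : F.obj ⟨op S⟩} {T : Sieve U} (hT : T ∈ J S U)
    (x : Presieve.FamilyOfElements ((ι F S).op ⋙ P) T.arrows) (hx : x.Compatible)
    {W₁ W₂ : F.obj ⟨op S⟩} {r₁ : W₁ ⟶ U} {r₂ : W₂ ⟶ U} (h₁ : T r₁) (h₂ : T r₂)
    {V : F.obj ⟨op R⟩} (ψ₁ : V ⟶ (FibSite.invImage F b).obj W₁)
    (ψ₂ : V ⟶ (FibSite.invImage F b).obj W₂)
    (e : ψ₁ ≫ (FibSite.invImage F b).map r₁ = ψ₂ ≫ (FibSite.invImage F b).map r₂) :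
    P.map ((ι F R).map ψ₁ ≫ cl b W₁).op (x r₁ h₁) =
      P.map ((ι F R).map ψ₂ ≫ cl b W₂).op (x r₂ h₂) := by
  have := hF b
  let v (V : F.obj ⟨op R⟩) (a : El (FibSite.invImage F b) T V) : P.obj (op ((ι F R).obj V)) :=
    P.map ((ι F R).map a.ψ ≫ cl b a.W).op (x a.r a.mem)
  have hv (V) (a c : El (FibSite.invImage F b) T V) (hac : El.Rel a c) : v V a = v V c := by
    obtain ⟨g, hg₁, hg₂⟩ := hac
    have hxg : x a.r a.mem = P.map ((ι F S).map g).op (x c.r c.mem) := by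
      refine (?_ : _ = P.map ((ι F S).map (𝟙 a.W)).op (x a.r a.mem)).trans
        (hx (𝟙 _) g a.mem c.mem (by rw [Category.id_comp, hg₁]))
      simp
    simp only [v, ← hg₂, hxg, ← ConcreteCategory.comp_apply, ← Functor.map_comp, ← op_comp]
    rw [Functor.map_comp, Category.assoc, Category.assoc, cl_naturality]
  obtain ⟨M, hM, hk⟩ := exists_cover_push_eq (J S) (J R) (FibSite.invImage F b) hT
    (⟨W₁, r₁, h₁, ψ₁⟩ : El _ T V) ⟨W₂, r₂, h₂, ψ₂⟩ e
  refine ((isSeparated_restr hP R) _ hM).ext fun Z k hkM => ?_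
  have h := congrArg (Quot.lift (v Z) (hv Z)) (hk k hkM)
  simp only [push_map, Quot.map] at h
  simpa [v] using h

lemma isSheaf_restr (hF : FibSite.IsPreFibSite F J) {P : (∫ᶜ F)ᵒᵖ ⥤ Type w}
    (hP : Presieve.IsSheaf (FibSite.totalTopology F J) P) (S : 𝒮) :
    Presieve.IsSheaf (J S) ((ι F S).op ⋙ P) := by
  intro U T hT x hx
  refine existsUnique_of_exists_of_unique ?_ fun t₁ t₂ h₁ h₂ =>
    (isSeparated_restr hP S T hT) x t₁ t₂ h₁ h₂
  let R₀ : Presieve ((ι F S).obj U) := T.arrows.functorPushforward (ι F S)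
  let y : Presieve.FamilyOfElements P R₀ := fun Z g hg =>
    P.map (Presieve.getFunctorPushforwardStructure hg).lift.op
      (x _ (Presieve.getFunctorPushforwardStructure hg).cover)
  have wd {Z : ∫ᶜ F} {W₁ W₂ : F.obj ⟨op S⟩} (r₁ : W₁ ⟶ U) (r₂ : W₂ ⟶ U) (k₁ : T r₁) (k₂ : T r₂)
      (g₁ : Z ⟶ (ι F S).obj W₁) (g₂ : Z ⟶ (ι F S).obj W₂)
      (e : g₁ ≫ (ι F S).map r₁ = g₂ ≫ (ι F S).map r₂) :
      P.map g₁.op (x r₁ k₁) = P.map g₂.op (x r₂ k₂) := by
    obtain ⟨b, ψ₁⟩ := g₁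
    obtain ⟨b', ψ₂⟩ := g₂
    obtain rfl : b = b' := by
      simpa using congrArg Pseudofunctor.CoGrothendieck.Hom.base e
    rw [factor (⟨b, ψ₁⟩ : Z ⟶ (ι F S).obj W₁), factor (⟨b, ψ₂⟩ : Z ⟶ (ι F S).obj W₂)] at e ⊢
    refine compatible_of_eq hF hP b hT x hx k₁ k₂ ψ₁ ψ₂ ?_
    have e₁ (W : F.obj ⟨op S⟩) (r : W ⟶ U) (ψ : Z.fiber ⟶ (FibSite.invImage F b).obj W) :
        ((ι F Z.base).map ψ ≫ cl b W) ≫ (ι F S).map r =
          (⟨b, ψ ≫ (FibSite.invImage F b).map r⟩ : Z ⟶ (ι F S).obj U) :=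
      (Category.assoc _ _ _).trans ((congrArg ((ι F Z.base).map ψ ≫ ·) (cl_naturality b r).symm).trans
        ((Category.assoc _ _ _).symm.trans ((congrArg (· ≫ cl b U) (Functor.map_comp _ _ _).symm).trans
          (factor (⟨b, ψ ≫ (FibSite.invImage F b).map r⟩ : Z ⟶ (ι F S).obj U)).symm)))
    obtain ⟨hb', e'⟩ := (Pseudofunctor.CoGrothendieck.Hom.ext_iff _ _).1
      (((e₁ W₁ r₁ ψ₁).symm.trans e).trans (e₁ W₂ r₂ ψ₂))
    exact e'.trans (Category.comp_id _)
  have hy : y.Compatible := fun Y₁ Y₂ Z g₁ g₂ f₁ f₂ k₁ k₂ eq => by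
    simp only [y, ← ConcreteCategory.comp_apply, ← Functor.map_comp, ← op_comp]
    refine wd _ _ _ _ _ _ ?_
    rw [Category.assoc, Category.assoc, ← (Presieve.getFunctorPushforwardStructure k₁).fac,
      ← (Presieve.getFunctorPushforwardStructure k₂).fac]
    exact eq
  have hs := hP _ (FibSite.functorPushforward_mem_totalTopology hT)
  refine ⟨hs.amalgamate y hy, fun W r hr => ?_⟩
  have hm : R₀ ((ι F S).map r) := ⟨W, r, 𝟙 _, hr, (Category.id_comp _).symm⟩
  refine (hs.valid_glue hy _ hm).trans ((wd _ r _ hr _ (𝟙 _) ?_).trans (by simp))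
  rw [← (Presieve.getFunctorPushforwardStructure hm).fac, Category.id_comp]

lemma isSheaf_of_restr (hF : FibSite.IsPreFibSite F J) {P : (∫ᶜ F)ᵒᵖ ⥤ Type w}
    (h : ∀ S : 𝒮, Presieve.IsSheaf (J S) ((ι F S).op ⋙ P)) :
    Presieve.IsSheaf (FibSite.totalTopology F J) P := by
  intro X S hS x hx
  have hR := (mem_total_iff hF).1 hS
  let R := Sieve.functorPullback (ι F X.base) (X := X.fiber) S
  let xR : Presieve.FamilyOfElements ((ι F X.base).op ⋙ P) R.arrows := fun V r hr =>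
    x ((ι F X.base).map r) hr
  have hxR : xR.Compatible := fun Y₁ Y₂ Z g₁ g₂ f₁ f₂ k₁ k₂ eq =>
    hx ((ι F X.base).map g₁) ((ι F X.base).map g₂) k₁ k₂
      (by rw [← Functor.map_comp, ← Functor.map_comp, eq])
  have hs := h X.base R hR
  refine ⟨hs.amalgamate xR hxR, fun Z f hf => ?_, fun t ht => ?_⟩
  · obtain ⟨T, hT, hT'⟩ := pullback_mem hF f hR
    refine ((h Z.base T hT).isSeparatedFor).ext fun V g hg => ?_
    obtain ⟨W, r, hr, k, -, e⟩ := hT' g hg
    refine ((ConcreteCategory.comp_apply _ _ _).symm.trans ?_)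
    show (P.map f.op ≫ P.map ((ι F Z.base).map g).op) _ = _
    rw [← Functor.map_comp, ← op_comp, e, op_comp, Functor.map_comp, ConcreteCategory.comp_apply]
    erw [hs.valid_glue hxR r hr]
    exact hx _ _ hr hf e.symm
  · refine hs.isSeparatedFor.ext fun V r hr => ?_
    exact (ht ((ι F X.base).map r) hr).trans (hs.valid_glue hxR r hr).symm

lemma isSheaf_total_iff (hF : FibSite.IsPreFibSite F J) {A : Type u₃} [Category.{v₃} A]
    (P : (∫ᶜ F)ᵒᵖ ⥤ A) :
    Presheaf.IsSheaf (FibSite.totalTopology F J) P ↔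
      ∀ S : 𝒮, Presheaf.IsSheaf (J S) ((ι F S).op ⋙ P) :=
  ⟨fun h S E => isSheaf_restr hF (h E) S,
    fun h E => isSheaf_of_restr hF fun S => h S E⟩

lemma isContinuous_ι (hF : FibSite.IsPreFibSite F J) (S : 𝒮) :
    (ι F S).IsContinuous (J S) (FibSite.totalTopology F J) :=
  ⟨fun G => isSheaf_restr hF ((isSheaf_iff_isSheaf_of_type _ _).1 G.2) S⟩

lemma isContinuous_total_iff (hF : FibSite.IsPreFibSite F J) {D : Type u₃} [Category.{v₃} D]
    (K : GrothendieckTopology D) (m : ∫ᶜ F ⥤ D) :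
    m.IsContinuous (FibSite.totalTopology F J) K ↔ ∀ S : 𝒮, (ι F S ⋙ m).IsContinuous (J S) K := by
  constructor
  · intro h S
    have := isContinuous_ι hF S
    exact Functor.isContinuous_comp (ι F S) m (J S) (FibSite.totalTopology F J) K
  · intro h
    refine ⟨fun G => isSheaf_of_restr hF fun S => ?_⟩
    have := h S
    exact Functor.op_comp_isSheaf_of_isSheaf_type (ι F S ⋙ m) (J S)
      ((isSheaf_iff_isSheaf_of_type _ _).1 G.2)

lemma inducedTopology_eq (hF : FibSite.IsPreFibSite F J) (S : 𝒮) :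
    (ι F S).inducedTopology (FibSite.totalTopology F J) = J S := by
  refine le_antisymm (fun U T hT => ?_) ((ι F S).le_inducedTopology_iff.2 (isContinuous_ι hF S))
  have h := (CoverPreserving.of_isContinuous (ι F S) ((ι F S).inducedTopology
    (FibSite.totalTopology F J)) (FibSite.totalTopology F J)).cover_preserve hT
  refine (J S).superset_covering ?_ ((mem_total_iff hF).1 h)
  rintro V g ⟨W, r, k, hr, e⟩
  obtain ⟨k', rfl⟩ := exists_eq_map k (by
    simpa using (congrArg Pseudofunctor.CoGrothendieck.Hom.base e).symm)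
  have e' : (ι F S).map g = (ι F S).map (k' ≫ r) := e.trans (Functor.map_comp _ _ _).symm
  rw [map_injective e']
  exact T.downward_closed hr _

end Groth.Agent.H14FibSite
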