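import Groth.Agent.H14FibSite.Basic
import Mathlib.CategoryTheory.Sites.CoverLifting
import Mathlib.CategoryTheory.Limits.Types.Limits
import Mathlib.CategoryTheory.Functor.KanExtension.Adjunction

/-!
# The right Kan extension along a fibre inclusion, fibre by fibre
-/

set_option autoImplicit false
set_option backward.isDefEq.respectTransparency false
set_option backward.isDefEq.respectTransparency.types false
set_option backward.defeqAttrib.useBackward true

universe u

open CategoryTheory CategoryTheory.Limits Opposite Pseudofunctor Pseudofunctor.CoGrothendieck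

noncomputable section

namespace Groth.Agent.H14FibSite

variable {𝒮 : Type u} [SmallCategory 𝒮] {F : Pseudofunctor (LocallyDiscrete 𝒮ᵒᵖ) Cat.{u, u}}
  {J : FibSite.Topologies F}

lemma map_factor {S R : 𝒮} {f : R ⟶ S} {U : F.obj ⟨op S⟩} {V W : F.obj ⟨op R⟩} (h : V ⟶ W)
    (φ : W ⟶ (FibSite.invImage F f).obj U) :
    (ι F R).map h ≫ (⟨f, φ⟩ : (ι F R).obj W ⟶ (ι F S).obj U) =
      (⟨f, h ≫ φ⟩ : (ι F R).obj V ⟶ (ι F S).obj U) := by
  rw [factor (⟨f, φ⟩ : (ι F R).obj W ⟶ (ι F S).obj U), factor (⟨f, h ≫ φ⟩ : (ι F R).obj V ⟶ (ι F S).obj U),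
    ← Category.assoc]
  exact congrArg (· ≫ cl f U) ((ι F R).map_comp h φ).symm

/-- Restriction along the chosen cartesian morphisms over `f`. -/
def sigma (P : (∫ᶜ F)ᵒᵖ ⥤ Type u) {i j : 𝒮} (f : j ⟶ i) :
    (ι F i).op ⋙ P ⟶ (FibSite.invImage F f).op ⋙ (ι F j).op ⋙ P where
  app U := P.map (cl f U.unop).op
  naturality U U' r := by
    change P.map ((ι F i).map r.unop).op ≫ P.map (cl f U'.unop).op =
      P.map (cl f U.unop).op ≫ P.map ((ι F j).map ((FibSite.invImage F f).map r.unop)).op
    rw [← P.map_comp, ← P.map_comp, ← op_comp, ← op_comp, cl_naturality]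

lemma sigma_natural {P P' : (∫ᶜ F)ᵒᵖ ⥤ Type u} (t : P ⟶ P') {i j : 𝒮} (f : j ⟶ i) :
    Functor.whiskerLeft (ι F i).op t ≫ sigma P' f =
      sigma P f ≫ Functor.whiskerLeft (FibSite.invImage F f).op (Functor.whiskerLeft (ι F j).op t) := by
  ext U x
  exact (NatTrans.naturality_apply t (cl f U.unop).op x).symm

variable {j : 𝒮} (b : (F.obj ⟨op j⟩)ᵒᵖ ⥤ Type u)

/-- The projection of the right Kan extension attached to `f`. -/
def proj {i : 𝒮} (f : j ⟶ i) :
    (ι F i).op ⋙ (ι F j).op.ran.obj b ⟶ (FibSite.invImage F f).op ⋙ b :=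
  sigma ((ι F j).op.ran.obj b) f ≫ Functor.whiskerLeft (FibSite.invImage F f).op ((ι F j).op.ranCounit.app b)

lemma proj_apply {i : 𝒮} (f : j ⟶ i) (U : F.obj ⟨op i⟩) (x : ((ι F j).op.ran.obj b).obj (op ((ι F i).obj U))) :
    (proj b f).app (op U) x =
      ((ι F j).op.ranCounit.app b).app (op ((FibSite.invImage F f).obj U))
        (((ι F j).op.ran.obj b).map (cl f U).op x) := rfl

/-- Sections of the right Kan extension over a fibre: one section for each morphism to the base. -/
theorem existsUnique_ran {i : 𝒮} (U : F.obj ⟨op i⟩)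
    (y : ∀ f : j ⟶ i, b.obj (op ((FibSite.invImage F f).obj U))) :
    ∃! x : ((ι F j).op.ran.obj b).obj (op ((ι F i).obj U)), ∀ f, (proj b f).app (op U) x = y f := by
  let Q := (ι F j).op.ran.obj b
  let ε := (ι F j).op.ranCounit.app b
  let X : (∫ᶜ F)ᵒᵖ := op ((ι F i).obj U)
  let e := (ι F j).op.ranObjObjIsoLimit b X
  let D := StructuredArrow.proj X (ι F j).op ⋙ b
  have hom_π : ∀ (x : Q.obj X) (g : StructuredArrow X (ι F j).op),
      limit.π D g (e.hom x) = ε.app g.right (Q.map g.hom x) := fun x g =>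
    ConcreteCategory.congr_hom ((ι F j).op.ranObjObjIsoLimit_hom_π b X g) x
  -- the value of a section along an arrow
  let val : ∀ {W : F.obj ⟨op j⟩} (g : (ι F j).obj W ⟶ (ι F i).obj U), b.obj (op W) := fun {W} g =>
    b.map (Quiver.Hom.op (X := W) (Y := (FibSite.invImage F g.base).obj U) g.fiber) (y g.base)
  have hval : ∀ {V W : F.obj ⟨op j⟩} (h : V ⟶ W) (g : (ι F j).obj W ⟶ (ι F i).obj U),
      val ((ι F j).map h ≫ g) = b.map h.op (val g) := by
    rintro V W h ⟨f, φ⟩
    rw [map_factor h φ]
    change b.map (Quiver.Hom.op (h ≫ φ)) (y f) = _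
    rw [op_comp, Functor.map_comp]
    rfl
  let s : D.sections := ⟨fun g => val g.hom.unop, fun {g g'} k => by
    change b.map k.right (val g.hom.unop) = val g'.hom.unop
    have w : g.hom ≫ (ι F j).op.map k.right = g'.hom := StructuredArrow.w k
    rw [← w]
    exact (hval k.right.unop g.hom.unop).symm⟩
  let x₀ : Q.obj X := e.inv ((Types.limitEquivSections D).symm s)
  have hx₀ : ∀ g : StructuredArrow X (ι F j).op, ε.app g.right (Q.map g.hom x₀) = val g.hom.unop := fun g => by
    rw [← hom_π, show e.hom x₀ = (Types.limitEquivSections D).symm s from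
      Iso.inv_hom_id_apply e _]
    exact Types.limitEquivSections_symm_apply D s g
  refine ⟨x₀, fun f => ?_, fun x hx => ?_⟩
  · rw [proj_apply]
    refine (hx₀ (StructuredArrow.mk (S := X) (Y := op ((FibSite.invImage F f).obj U)) (cl f U).op)).trans ?_
    change b.map (Quiver.Hom.op (𝟙 _)) (y f) = y f
    simp
  · apply (Iso.toEquiv e).injective
    apply Types.limit_ext
    intro g
    change limit.π D g (e.hom x) = limit.π D g (e.hom x₀)
    rw [hom_π, hom_π, hx₀]
    obtain ⟨⟨⟨⟩⟩, ⟨W⟩, ⟨⟨f, φ⟩⟩⟩ := g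
    have h1 : ε.app (op W) (Q.map ((ι F j).map φ).op (Q.map (cl f U).op x)) =
        b.map φ.op ((proj b f).app (op U) x) := NatTrans.naturality_apply ε φ.op _
    refine Eq.trans ?_ (h1.trans (congrArg _ (hx f)))
    refine congrArg (ε.app (op W)) ?_
    change Q.map (Quiver.Hom.op (⟨f, φ⟩ : (ι F j).obj W ⟶ (ι F i).obj U)) x = _
    rw [factor (⟨f, φ⟩ : (ι F j).obj W ⟶ (ι F i).obj U)]
    change Q.map (((ι F j).map φ ≫ cl f U).op) x = Q.map ((ι F j).map φ).op (Q.map (cl f U).op x)
    rw [op_comp, Q.map_comp]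
    rfl

section Sheaves

variable [∀ S : 𝒮, (ι F S).IsContinuous (J S) (FibSite.totalTopology F J)]
  [∀ (R S : 𝒮) (f : R ⟶ S), (FibSite.invImage F f).IsContinuous (J S) (J R)]

/-- Restriction along cartesian morphisms, on sheaves. -/
def sigmaSh (G : FibSite.TotSh F J (Type u)) {i j : 𝒮} (f : j ⟶ i) :
    (FibSite.restr F J (Type u) i).obj G ⟶
      ((FibSite.invImage F f).sheafPushforwardContinuous (Type u) (J i) (J j)).obj
        ((FibSite.restr F J (Type u) j).obj G) :=
  ObjectProperty.homMk (sigma G.obj f)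

lemma sigmaSh_natural {G G' : FibSite.TotSh F J (Type u)} (t : G ⟶ G') {i j : 𝒮} (f : j ⟶ i) :
    (FibSite.restr F J (Type u) i).map t ≫ sigmaSh G' f =
      sigmaSh G f ≫ ((FibSite.invImage F f).sheafPushforwardContinuous (Type u) (J i) (J j)).map
        ((FibSite.restr F J (Type u) j).map t) :=
  ObjectProperty.hom_ext _ (sigma_natural t.hom f)

variable {j : 𝒮} [(ι F j).IsCocontinuous (J j) (FibSite.totalTopology F J)] (a : Sheaf (J j) (Type u))

/-- The projection of the direct image from a fibre, on sheaves. -/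
def projSh {i : 𝒮} (f : j ⟶ i) :
    (FibSite.restr F J (Type u) i).obj ((FibSite.coextend F J (Type u) j).obj a) ⟶
      ((FibSite.invImage F f).sheafPushforwardContinuous (Type u) (J i) (J j)).obj a :=
  sigmaSh ((FibSite.coextend F J (Type u) j).obj a) f ≫
    ((FibSite.invImage F f).sheafPushforwardContinuous (Type u) (J i) (J j)).map
      (((ι F j).sheafAdjunctionCocontinuous (Type u) (J j) (FibSite.totalTopology F J)).counit.app a)

lemma projSh_hom {i : 𝒮} (f : j ⟶ i) : (projSh a f).hom = proj a.obj f := by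
  refine congrArg (fun k => sigma _ f ≫ Functor.whiskerLeft (FibSite.invImage F f).op k) ?_
  refine ((ι F j).sheafAdjunctionCocontinuous_counit_app_hom (Type u) (J j) (FibSite.totalTopology F J) a).trans ?_
  exact congrArg (fun t => t.app a.obj) ((ι F j).op.ranAdjunction_counit (Type u))

/-- The direct image from a fibre, restricted to a fibre, is a product. -/
def isLimitProj (i : 𝒮) : IsLimit (Fan.mk _ (fun f : j ⟶ i => projSh a f)) := by
  let lift : ∀ (s : Fan fun f : j ⟶ i =>
      ((FibSite.invImage F f).sheafPushforwardContinuous (Type u) (J i) (J j)).obj a),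
      ∀ (U : (F.obj ⟨op i⟩)ᵒᵖ) (x : s.pt.obj.obj U),
        ((ι F j).op.ran.obj a.obj).obj (op ((ι F i).obj U.unop)) := fun s U x =>
    (existsUnique_ran a.obj U.unop fun f => (s.proj f).hom.app U x).choose
  have lift_spec : ∀ (s : Fan fun f : j ⟶ i =>
      ((FibSite.invImage F f).sheafPushforwardContinuous (Type u) (J i) (J j)).obj a)
      (U : (F.obj ⟨op i⟩)ᵒᵖ) (x : s.pt.obj.obj U) (f : j ⟶ i),
        (proj a.obj f).app U (lift s U x) = (s.proj f).hom.app U x := fun s U x =>
    (existsUnique_ran a.obj U.unop fun f => (s.proj f).hom.app U x).choose_spec.1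
  refine mkFanLimit _ (fun s => ObjectProperty.homMk
    { app := fun U => TypeCat.ofHom (lift s U)
      naturality := fun U U' r => ?_ }) (fun s f => ?_) fun s m hm => ?_
  · ext x
    refine (existsUnique_ran a.obj U'.unop fun f => (s.proj f).hom.app U' (s.pt.obj.map r x)).unique
      (fun f => lift_spec s U' _ f) fun f => ?_
    refine ((NatTrans.naturality_apply (proj a.obj f) r (lift s U x))).trans ?_
    rw [lift_spec]
    exact (NatTrans.naturality_apply (s.proj f).hom r x).symm
  · refine ObjectProperty.hom_ext _ ?_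
    ext U x
    change (projSh a f).hom.app U (lift s U x) = _
    rw [projSh_hom]
    exact lift_spec s U x f
  · refine ObjectProperty.hom_ext _ ?_
    ext U x
    refine (existsUnique_ran a.obj U.unop fun f => (s.proj f).hom.app U x).unique (fun f => ?_)
      fun f => lift_spec s U x f
    rw [← projSh_hom]
    exact congrArg (fun k => k.hom.app U x) (hm f)

end Sheaves

end Groth.Agent.H14FibSite
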