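import Groth.Agent.H14FibSite.Coextend
import Mathlib.CategoryTheory.Sites.Pullback
import Mathlib.CategoryTheory.Adjunction.Triple
import Mathlib.CategoryTheory.Limits.Preserves.Finite

/-!
# Extension from a fibre of a fibred site
-/

set_option autoImplicit false
set_option backward.isDefEq.respectTransparency false
set_option backward.isDefEq.respectTransparency.types false
set_option backward.defeqAttrib.useBackward true

universe u

open CategoryTheory CategoryTheory.Limits Opposite Pseudofunctor Pseudofunctor.CoGrothendieck

noncomputable section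

namespace Groth.Agent.H14FibSite

variable {𝒮 : Type u} [SmallCategory 𝒮] {F : Pseudofunctor (LocallyDiscrete 𝒮ᵒᵖ) Cat.{u, u}}
  {J : FibSite.Topologies F}
  [∀ S : 𝒮, (ι F S).IsContinuous (J S) (FibSite.totalTopology F J)]
  [∀ (R S : 𝒮) (f : R ⟶ S), (FibSite.invImage F f).IsContinuous (J S) (J R)]
  {i : 𝒮} [((ι F i).sheafPushforwardContinuous (Type u) (J i) (FibSite.totalTopology F J)).IsRightAdjoint]

/-- The adjunction between extension and restriction. -/
abbrev extAdj (i : 𝒮)
    [((ι F i).sheafPushforwardContinuous (Type u) (J i) (FibSite.totalTopology F J)).IsRightAdjoint] :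
    FibSite.extend F J (Type u) i ⊣ FibSite.restr F J (Type u) i :=
  (ι F i).sheafAdjunctionContinuous (Type u) (J i) (FibSite.totalTopology F J)

variable {j : 𝒮} (f : j ⟶ i)
  [((FibSite.invImage F f).sheafPushforwardContinuous (Type u) (J i) (J j)).IsRightAdjoint]

/-- The component of the restriction of an extension attached to `f`. -/
def injSh (a : Sheaf (J i) (Type u)) :
    ((FibSite.invImage F f).sheafPullback (Type u) (J i) (J j)).obj a ⟶
      (FibSite.restr F J (Type u) j).obj ((FibSite.extend F J (Type u) i).obj a) :=
  (((FibSite.invImage F f).sheafAdjunctionContinuous (Type u) (J i) (J j)).homEquiv _ _).symm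
    ((extAdj i).unit.app a ≫ sigmaSh ((FibSite.extend F J (Type u) i).obj a) f)

lemma injSh_natural {a a' : Sheaf (J i) (Type u)} (t : a ⟶ a') :
    ((FibSite.invImage F f).sheafPullback (Type u) (J i) (J j)).map t ≫ injSh f a' =
      injSh f a ≫ (FibSite.restr F J (Type u) j).map ((FibSite.extend F J (Type u) i).map t) := by
  rw [injSh, injSh, ← Adjunction.homEquiv_naturality_left_symm, ← Adjunction.homEquiv_naturality_right_symm,
    Category.assoc, ← sigmaSh_natural]
  congr 1
  rw [← Category.assoc, ← Category.assoc]
  congr 1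
  exact (extAdj i).unit.naturality t

variable [(ι F j).IsCocontinuous (J j) (FibSite.totalTopology F J)]

/-- The adjunction between restriction and direct image. -/
abbrev coextAdj (j : 𝒮) [(ι F j).IsCocontinuous (J j) (FibSite.totalTopology F J)] :
    FibSite.restr F J (Type u) j ⊣ FibSite.coextend F J (Type u) j :=
  (ι F j).sheafAdjunctionCocontinuous (Type u) (J j) (FibSite.totalTopology F J)

omit f in
/-- The map out of the restriction of an extension attached to a map into the direct image. -/
def ofLift (a : Sheaf (J i) (Type u)) (b : Sheaf (J j) (Type u)) :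
    (a ⟶ (FibSite.restr F J (Type u) i).obj ((FibSite.coextend F J (Type u) j).obj b)) ≃
      ((FibSite.restr F J (Type u) j).obj ((FibSite.extend F J (Type u) i).obj a) ⟶ b) :=
  ((extAdj i).homEquiv _ _).symm.trans ((coextAdj j).homEquiv _ _).symm

lemma injSh_ofLift (a : Sheaf (J i) (Type u)) (b : Sheaf (J j) (Type u))
    (s : a ⟶ (FibSite.restr F J (Type u) i).obj ((FibSite.coextend F J (Type u) j).obj b)) :
    ((FibSite.invImage F f).sheafAdjunctionContinuous (Type u) (J i) (J j)).homEquiv _ _
      (injSh f a ≫ ofLift a b s) = s ≫ projSh b f := by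
  rw [Adjunction.homEquiv_naturality_right, injSh, Equiv.apply_symm_apply]
  simp only [ofLift, Equiv.trans_apply]
  rw [(coextAdj j).homEquiv_counit, Functor.map_comp, Category.assoc,
    ← Category.assoc (sigmaSh _ f), ← sigmaSh_natural, Category.assoc, ← Category.assoc]
  congr 1
  exact ((extAdj i).homEquiv_unit _ _ _).symm.trans (Equiv.apply_symm_apply _ _)

omit f in
/-- The restriction of an extension is a coproduct. -/
def isColimitInj (a : Sheaf (J i) (Type u))
    [∀ f : j ⟶ i, ((FibSite.invImage F f).sheafPushforwardContinuous (Type u) (J i) (J j)).IsRightAdjoint] :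
    IsColimit (Cofan.mk _ (fun f : j ⟶ i => injSh f a)) :=
  let t : ∀ (s : Cofan fun f : j ⟶ i => ((FibSite.invImage F f).sheafPullback (Type u) (J i) (J j)).obj a),
      a ⟶ (FibSite.restr F J (Type u) i).obj ((FibSite.coextend F J (Type u) j).obj s.pt) := fun s =>
    Fan.IsLimit.lift (isLimitProj s.pt i) fun f =>
      ((FibSite.invImage F f).sheafAdjunctionContinuous (Type u) (J i) (J j)).homEquiv _ _ (s.inj f)
  have ht : ∀ s f, t s ≫ projSh s.pt f =
      ((FibSite.invImage F f).sheafAdjunctionContinuous (Type u) (J i) (J j)).homEquiv _ _ (s.inj f) :=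
    fun s f => Fan.IsLimit.fac (isLimitProj s.pt i) _ f
  Cofan.IsColimit.mk _ (fun s => ofLift a s.pt (t s))
    (fun s f => (((FibSite.invImage F f).sheafAdjunctionContinuous (Type u) (J i) (J j)).homEquiv _ _).injective
      ((injSh_ofLift f a s.pt _).trans (ht s f)))
    fun s m hm => by
      obtain ⟨s', rfl⟩ := (ofLift a s.pt).surjective m
      congr 1
      refine Fan.IsLimit.hom_ext (isLimitProj s.pt i) _ _ fun f => ?_
      have h := (congrArg (((FibSite.invImage F f).sheafAdjunctionContinuous (Type u) (J i) (J j)).homEquiv _ _)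
        (hm f))
      exact ((injSh_ofLift f a s.pt s').symm.trans h).trans (ht s f).symm

omit f in
/-- Over a terminal object the direct image restricts back to itself. -/
lemma isIso_counit_of_terminal {k : 𝒮} (hk : IsTerminal k)
    [(ι F k).IsCocontinuous (J k) (FibSite.totalTopology F J)] : IsIso (coextAdj (F := F) (J := J) k).counit := by
  have : ∀ b : Sheaf (J k) (Type u), IsIso ((coextAdj (F := F) (J := J) k).counit.app b) := fun b => by
    let ε := (ι F k).op.ranCounit.app b.obj
    have : ∀ U : (F.obj ⟨op k⟩)ᵒᵖ, IsIso (ε.app U) := by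
      rintro ⟨U⟩
      -- the chosen cartesian arrow over the identity is an isomorphism
      let w : (FibSite.invImage F (𝟙 k)).obj U ≅ U := (Cat.Hom.toNatIso (F.mapId ⟨op k⟩)).app U
      have hbij : Function.Bijective ((proj b.obj (𝟙 k)).app (op U)) := by
        refine ⟨fun x x' h => ?_, fun z => ?_⟩
        · refine (existsUnique_ran b.obj U fun f => (proj b.obj f).app (op U) x').unique (fun f => ?_) fun f => rfl
          rw [show f = 𝟙 k from hk.hom_ext _ _]
          exact h
        · obtain ⟨x, hx, -⟩ := existsUnique_ran b.obj U fun f =>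
            (show (𝟙 k) = f from hk.hom_ext _ _) ▸ z
          exact ⟨x, hx (𝟙 k)⟩
      have e : (proj b.obj (𝟙 k)).app (op U) = ε.app (op U) ≫ b.obj.map w.hom.op := by
        have hcl : cl (𝟙 k) U = (ι F k).map w.hom := by
          refine Pseudofunctor.CoGrothendieck.Hom.ext _ _ rfl ?_
          simp [w, ← Cat.Hom.toNatIso_hom, ← Cat.Hom.toNatIso_inv]
        refine Eq.trans ?_ (ε.naturality w.hom.op)
        change _ = ((ι F k).op.ran.obj b.obj).map ((ι F k).map w.hom).op ≫ _
        rw [← hcl]
        rfl
      have : IsIso ((proj b.obj (𝟙 k)).app (op U)) := (isIso_iff_bijective _).2 hbij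
      rw [e] at this
      exact IsIso.of_isIso_comp_right (ε.app (op U)) (b.obj.map w.hom.op)
    have hε : IsIso ε := NatIso.isIso_of_isIso_app ε
    have : IsIso ((sheafToPresheaf (J k) (Type u)).map ((coextAdj (F := F) (J := J) k).counit.app b)) := by
      have e : ((coextAdj (F := F) (J := J) k).counit.app b).hom = ε :=
        ((ι F k).sheafAdjunctionCocontinuous_counit_app_hom (Type u) (J k) (FibSite.totalTopology F J) b).trans
          (congrArg (fun t => t.app b.obj) ((ι F k).op.ranAdjunction_counit (Type u)))
      change IsIso ((coextAdj (F := F) (J := J) k).counit.app b).hom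
      rw [e]; exact hε
    exact isIso_of_reflects_iso _ (sheafToPresheaf (J k) (Type u))
  exact NatIso.isIso_of_isIso_app _

omit f in
/-- Extension from the fibre over a terminal object is fully faithful. -/
lemma extend_fullyFaithful (hi : IsTerminal i) [(ι F i).IsCocontinuous (J i) (FibSite.totalTopology F J)] :
    (FibSite.extend F J (Type u) i).Full ∧ (FibSite.extend F J (Type u) i).Faithful := by
  have := isIso_counit_of_terminal (F := F) (J := J) hi
  let h : (FibSite.coextend F J (Type u) i).FullyFaithful :=
    (coextAdj (F := F) (J := J) i).fullyFaithfulROfIsIsoCounit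
  let t : Adjunction.Triple (FibSite.extend F J (Type u) i) (FibSite.restr F J (Type u) i)
      (FibSite.coextend F J (Type u) i) := ⟨extAdj i, coextAdj i⟩
  let h' := t.fullyFaithfulEquiv.symm h
  exact ⟨h'.full, h'.faithful⟩

omit f in
/-- Extension from the fibre over a terminal object is left exact. -/
lemma extend_leftExact (hi : IsTerminal i)
    [∀ R : 𝒮, (ι F R).IsCocontinuous (J R) (FibSite.totalTopology F J)]
    [∀ (R : 𝒮) (f : R ⟶ i),
      ((FibSite.invImage F f).sheafPushforwardContinuous (Type u) (J i) (J R)).IsRightAdjoint]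
    (hp : ∀ (R : 𝒮) (f : R ⟶ i), PreservesFiniteLimits ((FibSite.invImage F f).sheafPullback (Type u) (J i) (J R))) :
    PreservesFiniteLimits (FibSite.extend F J (Type u) i) := by
  have hR : ∀ R : 𝒮, PreservesFiniteLimits (FibSite.extend F J (Type u) i ⋙ FibSite.restr F J (Type u) R) := by
    intro R
    let f := hi.from R
    have hiso : ∀ a, IsIso (injSh f a) := fun a =>
      ⟨Cofan.IsColimit.desc (isColimitInj (F := F) (J := J) (j := R) a) (fun g =>
        eqToHom (congrArg (fun k => ((FibSite.invImage F k).sheafPullback (Type u) (J i) (J R)).obj a) (hi.hom_ext g f))),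
      (Cofan.IsColimit.fac (isColimitInj (F := F) (J := J) (j := R) a) (fun g => eqToHom (congrArg (fun k => ((FibSite.invImage F k).sheafPullback (Type u) (J i) (J R)).obj a) (hi.hom_ext g f))) f).trans (eqToHom_refl _ _),
      Cofan.IsColimit.hom_ext (isColimitInj (F := F) (J := J) (j := R) a) _ _ fun g => by
        obtain rfl := hi.hom_ext g f
        have h := Cofan.IsColimit.fac (isColimitInj (F := F) (J := J) (j := R) a)
          (fun g => eqToHom (congrArg (fun k => ((FibSite.invImage F k).sheafPullback (Type u) (J i) (J R)).obj a) (hi.hom_ext g f))) f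
        simp only [eqToHom_refl] at h
        change injSh f a ≫ _ = injSh f a ≫ 𝟙 _
        rw [Category.comp_id, ← Category.assoc]
        exact (congrArg (· ≫ injSh f a) h).trans (Category.id_comp _)⟩
    have := hp R f
    exact preservesFiniteLimits_of_natIso (NatIso.ofComponents (fun a => asIso (injSh f a))
      (fun {a a'} t => injSh_natural f t) : _ ≅ FibSite.extend F J (Type u) i ⋙ FibSite.restr F J (Type u) R)
  refine ⟨fun K _ _ => ⟨fun {D} => ⟨fun {c} hc => ⟨?_⟩⟩⟩⟩
  refine isLimitOfReflects (sheafToPresheaf _ _) (evaluationJointlyReflectsLimits _ fun X => ?_)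
  have hlim : HasLimitsOfShape K (Type u) := inferInstance
  have := (hR X.unop.base).preservesFiniteLimits K
  have hp' : PreservesLimit D (FibSite.extend F J (Type u) i ⋙ FibSite.restr F J (Type u) X.unop.base) :=
    this.preservesLimit
  have h1 := isLimitOfPreserves (FibSite.extend F J (Type u) i ⋙ FibSite.restr F J (Type u) X.unop.base) hc
  have h2 := isLimitOfPreserves (sheafToPresheaf (J X.unop.base) (Type u)) h1
  exact isLimitOfPreserves ((evaluation (F.obj ⟨op X.unop.base⟩)ᵒᵖ (Type u)).obj (op X.unop.fiber)) h2

end Groth.Agent.H14FibSite
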