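import Groth.Agent.H14FibSite.Map
import Groth.Agent.H14FibSite.Extend
import Mathlib.CategoryTheory.Sites.Localization
import Mathlib.CategoryTheory.Sites.LeftExact
import Mathlib.CategoryTheory.Extensive
import Mathlib.CategoryTheory.Limits.Constructions.FiniteProductsOfBinaryProducts
import Mathlib.CategoryTheory.Limits.Constructions.LimitsOfProductsAndEqualizers

/-!
# A morphism of total sites is a morphism of fibred sites
-/

set_option autoImplicit false
set_option backward.isDefEq.respectTransparency false
set_option backward.isDefEq.respectTransparency.types false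
set_option backward.defeqAttrib.useBackward true

universe u v₁ v₂ v₃ u₁ u₂ u₃

open CategoryTheory CategoryTheory.Limits Opposite Pseudofunctor Pseudofunctor.CoGrothendieck
open scoped CategoryTheory.Pseudofunctor.StrongTrans

noncomputable section

namespace Groth.Agent.H14FibSite

section Abstract

variable {C : Type u₁} [Category.{v₁} C] {D : Type u₂} [Category.{v₂} D]

/-- A functor preserving binary coproducts preserves pullbacks of coproduct injections. -/
lemma isPullback_map_inl [FinitaryExtensive C] [HasPullbacks C] [FinitaryExtensive D] (P : C ⥤ D)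
    [PreservesColimitsOfShape (Discrete WalkingPair) P] {A B : C} {c : BinaryCofan A B} (hc : IsColimit c)
    {X₁ X : C} {i : X₁ ⟶ X} {q : X₁ ⟶ A} {p : X ⟶ c.pt} (h : IsPullback i q p c.inl) :
    IsPullback (P.map i) (P.map q) (P.map p) (P.map c.inl) := by
  let h₂ : IsPullback (pullback.fst p c.inr) (pullback.snd p c.inr) p c.inr := .of_hasPullback _ _
  obtain ⟨hd⟩ := ((BinaryCofan.isVanKampen_iff c).1 (FinitaryExtensive.vanKampen c hc)
    (BinaryCofan.mk i (pullback.fst p c.inr)) q (pullback.snd p c.inr) p h.w.symm h₂.w.symm).2 ⟨h, h₂⟩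
  have hPc := mapIsColimitOfPreservesOfIsColimit P c.inl c.inr (IsColimit.ofIsoColimit hc (isoBinaryCofanMk c))
  have hPd := mapIsColimitOfPreservesOfIsColimit P i (pullback.fst p c.inr) hd
  exact (((BinaryCofan.isVanKampen_iff (BinaryCofan.mk (P.map c.inl) (P.map c.inr))).1
    (FinitaryExtensive.vanKampen _ hPc) (BinaryCofan.mk (P.map i) (P.map (pullback.fst p c.inr))) (P.map q)
    (P.map (pullback.snd p c.inr)) (P.map p)
    ((P.map_comp _ _).symm.trans ((congrArg P.map h.w.symm).trans (P.map_comp _ _)))
    ((P.map_comp _ _).symm.trans ((congrArg P.map h₂.w.symm).trans (P.map_comp _ _)))).1 ⟨hPd⟩).1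

variable {T : Type u₃} [Category.{v₃} T] [HasFiniteLimits C] [HasPullbacks T]

/-- A criterion for left exactness through a retraction of a left exact composite. -/
lemma preservesFiniteLimits_of_extraction (E : C ⥤ T) (R : T ⥤ C) (P : C ⥤ D)
    [PreservesFiniteLimits R] [PreservesFiniteLimits (R ⋙ P)] (η : 𝟭 C ⟶ E ⋙ R)
    (hT : IsTerminal (P.obj (⊤_ C)))
    (hsq : ∀ a : C, IsPullback (η.app a) (terminal.from a) (R.map (E.map (terminal.from a))) (η.app (⊤_ C)))
    (hP : ∀ {a x : C} (i : a ⟶ x) (p : x ⟶ R.obj (E.obj (⊤_ C))),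
      IsPullback i (terminal.from a) p (η.app (⊤_ C)) →
        IsPullback (P.map i) (P.map (terminal.from a)) (P.map p) (P.map (η.app (⊤_ C)))) :
    PreservesFiniteLimits P := by
  have : PreservesLimit (Functor.empty.{0} C) P :=
    preservesLimit_of_preserves_limit_cone terminalIsTerminal
      ((isLimitMapConeEmptyConeEquiv P _).symm hT)
  have : Mono (η.app (⊤_ C)) := ⟨fun _ _ _ => terminalIsTerminal.hom_ext _ _⟩
  have : Mono (P.map (η.app (⊤_ C))) := ⟨fun _ _ _ => hT.hom_ext _ _⟩
  have hmono : ∀ a : C, Mono (η.app a) := fun a => (hsq a).mono_fst_of_mono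
  have hPsq : ∀ a : C, IsPullback (P.map (η.app a)) (P.map (terminal.from a))
      (P.map (R.map (E.map (terminal.from a)))) (P.map (η.app (⊤_ C))) := fun a => hP _ _ (hsq a)
  have hmono' : ∀ a : C, Mono (P.map (η.app a)) := fun a => (hPsq a).mono_fst_of_mono
  have hpb : ∀ {a b c : C} (f : a ⟶ c) (g : b ⟶ c), PreservesLimit (cospan f g) P := by
    intro a b c f g
    let Q := pullback f g
    have hQ : IsPullback (pullback.fst f g) (pullback.snd f g) f g := .of_hasPullback f g
    have hL : IsPullback (pullback.fst (E.map f) (E.map g)) (pullback.snd (E.map f) (E.map g))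
      (E.map f) (E.map g) := .of_hasPullback _ _
    have hRL := hL.map R
    have hPRL := hL.map (R ⋙ P)
    let l : Q ⟶ R.obj (pullback (E.map f) (E.map g)) :=
      hRL.lift (pullback.fst f g ≫ η.app a) (pullback.snd f g ≫ η.app b) (by
        have e₁ : η.app a ≫ R.map (E.map f) = f ≫ η.app c := (η.naturality f).symm
        have e₂ : η.app b ≫ R.map (E.map g) = g ≫ η.app c := (η.naturality g).symm
        rw [Category.assoc, Category.assoc, e₁, e₂, pullback.condition_assoc])
    let p : R.obj (pullback (E.map f) (E.map g)) ⟶ R.obj (E.obj (⊤_ C)) :=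
      R.map (pullback.fst (E.map f) (E.map g) ≫ E.map (terminal.from a))
    have hp : p = R.map (pullback.snd (E.map f) (E.map g) ≫ E.map (terminal.from b)) := by
      have ha : E.map (terminal.from a) = E.map f ≫ E.map (terminal.from c) := by
        rw [← E.map_comp]; congr 1; exact terminalIsTerminal.hom_ext _ _
      have hb : E.map (terminal.from b) = E.map g ≫ E.map (terminal.from c) := by
        rw [← E.map_comp]; congr 1; exact terminalIsTerminal.hom_ext _ _
      simp only [p, ha, hb, pullback.condition_assoc]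
    have hlsq : IsPullback l (terminal.from Q) p (η.app (⊤_ C)) := by
      have w : l ≫ p = terminal.from Q ≫ η.app (⊤_ C) := by
        have e : η.app a ≫ R.map (E.map (terminal.from a)) = terminal.from a ≫ η.app (⊤_ C) := (hsq a).w
        simp only [p, R.map_comp]
        rw [hRL.lift_fst_assoc, Category.assoc, e, ← Category.assoc]
        congr 1
        exact terminalIsTerminal.hom_ext _ _
      refine IsPullback.of_isLimit' ⟨w⟩ (PullbackCone.IsLimit.mk _
        (fun s => hQ.lift ((hsq a).lift (s.fst ≫ R.map (pullback.fst (E.map f) (E.map g))) s.snd ?_)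
          ((hsq b).lift (s.fst ≫ R.map (pullback.snd (E.map f) (E.map g))) s.snd ?_) ?_)
        (fun s => ?_) (fun s => terminalIsTerminal.hom_ext _ _) fun s m hm _ => ?_)
      · rw [Category.assoc, ← R.map_comp]; exact s.condition
      · rw [Category.assoc, ← R.map_comp, ← hp]; exact s.condition
      · have := hmono c
        rw [← cancel_mono (η.app c)]
        have e₁ : f ≫ η.app c = η.app a ≫ R.map (E.map f) := η.naturality f
        have e₂ : g ≫ η.app c = η.app b ≫ R.map (E.map g) := η.naturality g
        refine (Category.assoc _ _ _).trans (((congrArg (_ ≫ ·) e₁).trans ((hsq a).lift_fst_assoc _ _ _ _)).trans ?_)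
        refine Eq.trans ?_ ((Category.assoc _ _ _).trans ((congrArg (_ ≫ ·) e₂).trans ((hsq b).lift_fst_assoc _ _ _ _))).symm
        exact (Category.assoc _ _ _).trans ((congrArg (s.fst ≫ ·) hRL.w).trans (Category.assoc _ _ _).symm)
      · refine hRL.hom_ext ?_ ?_
        · simp only [l, Category.assoc, hRL.lift_fst, hQ.lift_fst_assoc, (hsq a).lift_fst]
        · simp only [l, Category.assoc, hRL.lift_snd, hQ.lift_snd_assoc, (hsq b).lift_fst]
      · have := hmono a
        have := hmono b
        refine hQ.hom_ext ?_ ?_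
        · rw [hQ.lift_fst, ← cancel_mono (η.app a), (hsq a).lift_fst, ← hm, Category.assoc, Category.assoc,
            hRL.lift_fst]
        · rw [hQ.lift_snd, ← cancel_mono (η.app b), (hsq b).lift_fst, ← hm, Category.assoc, Category.assoc,
            hRL.lift_snd]
    have hPl := hP _ _ hlsq
    have := hmono' a
    have := hmono' b
    have hfin : IsPullback (P.map (pullback.fst f g)) (P.map (pullback.snd f g)) (P.map f) (P.map g) := by
      refine IsPullback.of_isLimit' ⟨by rw [← P.map_comp, pullback.condition, P.map_comp]⟩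
        (PullbackCone.IsLimit.mk _ (fun s =>
          hPl.lift (hPRL.lift (s.fst ≫ P.map (η.app a)) (s.snd ≫ P.map (η.app b)) ?_)
            (s.fst ≫ P.map (terminal.from a)) ?_) (fun s => ?_) (fun s => ?_) fun s m h₁ h₂ => ?_)
      · have e₁ : P.map (η.app a) ≫ P.map (R.map (E.map f)) = P.map f ≫ P.map (η.app c) := by
          rw [← P.map_comp, ← P.map_comp]; exact congrArg P.map (η.naturality f).symm
        have e₂ : P.map (η.app b) ≫ P.map (R.map (E.map g)) = P.map g ≫ P.map (η.app c) := by
          rw [← P.map_comp, ← P.map_comp]; exact congrArg P.map (η.naturality g).symm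
        simp only [Functor.comp_map, Category.assoc, e₁, e₂, s.condition_assoc]
      · have e : P.map (η.app a) ≫ P.map (R.map (E.map (terminal.from a))) =
            P.map (terminal.from a) ≫ P.map (η.app (⊤_ C)) := (hPsq a).w
        simp only [p, R.map_comp, P.map_comp]
        refine (Category.assoc _ _ _).symm.trans ((congrArg (· ≫ _) (hPRL.lift_fst _ _ _)).trans ?_)
        exact (Category.assoc _ _ _).trans ((congrArg (s.fst ≫ ·) e).trans (Category.assoc _ _ _).symm)
      · have eL : P.map l ≫ P.map (R.map (pullback.fst (E.map f) (E.map g))) =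
            P.map (pullback.fst f g) ≫ P.map (η.app a) := by
          rw [← P.map_comp, ← P.map_comp]
          exact congrArg P.map (hRL.lift_fst _ _ _)
        rw [← cancel_mono (P.map (η.app a))]
        refine (Category.assoc _ _ _).trans ((congrArg (_ ≫ ·) eL.symm).trans ?_)
        exact (hPl.lift_fst_assoc _ _ _ _).trans (hPRL.lift_fst _ _ _)
      · have eL : P.map l ≫ P.map (R.map (pullback.snd (E.map f) (E.map g))) =
            P.map (pullback.snd f g) ≫ P.map (η.app b) := by
          rw [← P.map_comp, ← P.map_comp]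
          exact congrArg P.map (hRL.lift_snd _ _ _)
        rw [← cancel_mono (P.map (η.app b))]
        refine (Category.assoc _ _ _).trans ((congrArg (_ ≫ ·) eL.symm).trans ?_)
        exact (hPl.lift_fst_assoc _ _ _ _).trans (hPRL.lift_snd _ _ _)
      · refine hPl.hom_ext ?_ (hT.hom_ext _ _)
        rw [hPl.lift_fst]
        refine hPRL.hom_ext ?_ ?_
        · refine Eq.trans ?_ (hPRL.lift_fst _ _ _).symm
          change (m ≫ P.map l) ≫ P.map (R.map (pullback.fst (E.map f) (E.map g))) = _
          rw [← h₁, Category.assoc, Category.assoc, ← P.map_comp, ← P.map_comp, hRL.lift_fst]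
        · refine Eq.trans ?_ (hPRL.lift_snd _ _ _).symm
          change (m ≫ P.map l) ≫ P.map (R.map (pullback.snd (E.map f) (E.map g))) = _
          rw [← h₂, Category.assoc, Category.assoc, ← P.map_comp, ← P.map_comp, hRL.lift_snd]
    exact preservesLimit_of_preserves_limit_cone hQ.isLimit
      ((PullbackCone.isLimitMapConeEquiv _ P).symm hfin.isLimit)
  have : PreservesLimitsOfShape WalkingCospan P :=
    ⟨fun {K} => by
      have := hpb (K.map WalkingCospan.Hom.inl) (K.map WalkingCospan.Hom.inr)
      exact preservesLimit_of_iso_diagram P (diagramIsoCospan K).symm⟩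
  have := preservesLimitsOfShape_pempty_of_preservesTerminal P
  exact preservesFiniteLimits_of_preservesTerminal_and_pullbacks P

end Abstract

section Continuous

variable {𝒮 : Type u} [SmallCategory 𝒮] {F G : Pseudofunctor (LocallyDiscrete 𝒮ᵒᵖ) Cat.{u, u}}
  {J : FibSite.Topologies F} {K : FibSite.Topologies G} (α : G ⟶ F)

lemma isContinuous_fibFun (hF : FibSite.IsPreFibSite F J) (hG : FibSite.IsPreFibSite G K)
    [(CoGrothendieck.map α).IsContinuous (FibSite.totalTopology G K) (FibSite.totalTopology F J)] (S : 𝒮) :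
    (fibFun α S).IsContinuous (K S) (J S) := by
  refine ⟨fun P => Presieve.IsSheaf.comp_of_W_map_of_adjunction (J := K S) (K := J S) (F := fibFun α S)
    ((fibFun α S).op.lanAdjunction (Type u)) (fun X T hT => ?_) _ ((isSheaf_iff_isSheaf_of_type _ _).1 P.2)⟩
  refine W_of_W_lan_map _ hF _ fun Q hQ => ?_
  let e₁ := (ι F S).op.lanAdjunction (Type u)
  let e₂ := (fibFun α S).op.lanAdjunction (Type u)
  let u₀ := (Sieve.shrinkFunctor.{u} T).ι
  have hQ' : Presheaf.IsSheaf (K S) ((fibFun α S).op ⋙ (ι F S).op ⋙ Q) := by
    have h1 : Presheaf.IsSheaf (FibSite.totalTopology G K) ((CoGrothendieck.map α).op ⋙ Q) :=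
      (isSheaf_iff_isSheaf_of_type _ _).2 (Functor.op_comp_isSheaf_of_isSheaf_type (CoGrothendieck.map α)
        (FibSite.totalTopology G K) ((isSheaf_iff_isSheaf_of_type _ _).1 hQ))
    exact (Presheaf.isSheaf_of_iso_iff (show (fibFun α S).op ⋙ (ι F S).op ⋙ Q ≅
      (ι G S).op ⋙ (CoGrothendieck.map α).op ⋙ Q from
      Functor.isoWhiskerRight (NatIso.op (ιMapIso α S).symm) Q)).2 ((isSheaf_total_iff hG _).1 h1 S)
  have hb := Sieve.W_shrinkFunctor_ι_of_mem.{u} (K S) T hT _ hQ'
  exact (e₁.map_comp_bijective_iff _ Q).2 ((e₂.map_comp_bijective_iff _ _).2 hb)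

end Continuous

section Decomposition

variable {𝒮 : Type u} [SmallCategory 𝒮] {G : Pseudofunctor (LocallyDiscrete 𝒮ᵒᵖ) Cat.{u, u}}
  {K : FibSite.Topologies G}
  [∀ S : 𝒮, (ι G S).IsContinuous (K S) (FibSite.totalTopology G K)]
  [∀ (R S : 𝒮) (f : R ⟶ S), (FibSite.invImage G f).IsContinuous (K S) (K R)] {S : 𝒮}

/-- The inverse image along an identity is isomorphic to the identity. -/
abbrev wIso (U : G.obj ⟨op S⟩) : (FibSite.invImage G (𝟙 S)).obj U ≅ U :=
  (Cat.Hom.toNatIso (G.mapId ⟨op S⟩)).app U

lemma cl_id (U : G.obj ⟨op S⟩) : cl (𝟙 S) U = (ι G S).map (wIso U).hom := by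
  refine Pseudofunctor.CoGrothendieck.Hom.ext _ _ rfl ?_
  simp [wIso, ← Cat.Hom.toNatIso_hom, ← Cat.Hom.toNatIso_inv]

/-- A sheaf compared with its direct image along an identity. -/
def idPush (t : Sheaf (K S) (Type u)) :
    t ⟶ ((FibSite.invImage G (𝟙 S)).sheafPushforwardContinuous (Type u) (K S) (K S)).obj t :=
  ObjectProperty.homMk
    { app := fun U => t.obj.map (wIso U.unop).hom.op
      naturality := fun U V r => by
        change t.obj.map r ≫ t.obj.map _ = t.obj.map _ ≫ t.obj.map _
        rw [← t.obj.map_comp, ← t.obj.map_comp]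
        congr 1
        refine Quiver.Hom.unop_inj ?_
        exact ((Cat.Hom.toNatIso (G.mapId ⟨op S⟩)).hom.naturality r.unop).symm }

lemma idPush_natural {t t' : Sheaf (K S) (Type u)} (h : t ⟶ t') :
    h ≫ idPush t' = idPush t ≫
      ((FibSite.invImage G (𝟙 S)).sheafPushforwardContinuous (Type u) (K S) (K S)).map h := by
  refine ObjectProperty.hom_ext _ ?_
  ext U x
  exact (NatTrans.naturality_apply h.hom (wIso U.unop).hom.op x).symm

instance (t : Sheaf (K S) (Type u)) : IsIso (idPush t) := by
  have : ∀ U, IsIso ((idPush t).hom.app U) := fun U =>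
    inferInstanceAs (IsIso (t.obj.map (wIso U.unop).hom.op))
  have : IsIso ((sheafToPresheaf _ _).map (idPush t)) := NatIso.isIso_of_isIso_app (idPush t).hom
  exact isIso_of_reflects_iso _ (sheafToPresheaf _ _)

lemma sigmaSh_id (X : FibSite.TotSh G K (Type u)) :
    sigmaSh X (𝟙 S) = idPush ((FibSite.restr G K (Type u) S).obj X) := by
  refine ObjectProperty.hom_ext _ ?_
  ext U x
  change X.obj.map (cl (𝟙 S) U.unop).op x = X.obj.map ((ι G S).map (wIso U.unop).hom).op x
  rw [cl_id]

variable [((ι G S).sheafPushforwardContinuous (Type u) (K S) (FibSite.totalTopology G K)).IsRightAdjoint]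
  [∀ f : S ⟶ S, ((FibSite.invImage G f).sheafPushforwardContinuous (Type u) (K S) (K S)).IsRightAdjoint]
  [(ι G S).IsCocontinuous (K S) (FibSite.totalTopology G K)]

/-- The components other than that of the identity. -/
abbrev restObj (a : Sheaf (K S) (Type u)) : Sheaf (K S) (Type u) :=
  ∐ fun f : {f : S ⟶ S // f ≠ 𝟙 S} => ((FibSite.invImage G f.1).sheafPullback (Type u) (K S) (K S)).obj a

/-- The complement of the unit. -/
def restInj (a : Sheaf (K S) (Type u)) :
    restObj a ⟶ (FibSite.restr G K (Type u) S).obj ((FibSite.extend G K (Type u) S).obj a) :=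
  Sigma.desc fun f => injSh f.1 a

/-- The unit, with its complement. -/
abbrev unitCofan (a : Sheaf (K S) (Type u)) : BinaryCofan a (restObj a) :=
  BinaryCofan.mk (P := (FibSite.restr G K (Type u) S).obj ((FibSite.extend G K (Type u) S).obj a))
    ((extAdj S).unit.app a) (restInj a)

lemma injSh_id (a b : Sheaf (K S) (Type u))
    (d : (FibSite.restr G K (Type u) S).obj ((FibSite.extend G K (Type u) S).obj a) ⟶ b) :
    ((FibSite.invImage G (𝟙 S)).sheafAdjunctionContinuous (Type u) (K S) (K S)).homEquiv _ _
      (injSh (𝟙 S) a ≫ d) = ((extAdj S).unit.app a ≫ d) ≫ idPush b := by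
  rw [Adjunction.homEquiv_naturality_right, injSh, Equiv.apply_symm_apply, sigmaSh_id, Category.assoc,
    Category.assoc]
  exact congrArg (_ ≫ ·) (idPush_natural d).symm

open scoped Classical in
/-- A family on all components from one on the identity and one on the others. -/
def famOf {a b : Sheaf (K S) (Type u)} (s : a ⟶ b) (s' : restObj a ⟶ b) (f : S ⟶ S) :
    ((FibSite.invImage G f).sheafPullback (Type u) (K S) (K S)).obj a ⟶ b :=
  if h : f = 𝟙 S then
    eqToHom (by rw [h]) ≫
      (((FibSite.invImage G (𝟙 S)).sheafAdjunctionContinuous (Type u) (K S) (K S)).homEquiv _ _).symm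
        (s ≫ idPush b)
  else Sigma.ι (fun f : {f : S ⟶ S // f ≠ 𝟙 S} =>
    ((FibSite.invImage G f.1).sheafPullback (Type u) (K S) (K S)).obj a) ⟨f, h⟩ ≫ s'

/-- The restriction of an extension is the unit and its complement. -/
def isColimitUnitCofan (a : Sheaf (K S) (Type u)) : IsColimit (unitCofan a) :=
  BinaryCofan.isColimitMk
    (fun s => Cofan.IsColimit.desc (isColimitInj (F := G) (J := K) (j := S) a) (famOf s.inl s.inr))
    (fun s => by
      have h := Cofan.IsColimit.fac (isColimitInj (F := G) (J := K) (j := S) a) (famOf s.inl s.inr) (𝟙 S)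
      have h' : famOf s.inl s.inr (𝟙 S) =
          (((FibSite.invImage G (𝟙 S)).sheafAdjunctionContinuous (Type u) (K S) (K S)).homEquiv _ _).symm
            (s.inl ≫ idPush s.pt) := by simp [famOf]
      rw [← cancel_mono (idPush s.pt), ← injSh_id]
      exact (Equiv.eq_symm_apply _).1 (h.trans h'))
    (fun s => by
      refine Sigma.hom_ext _ _ fun f => ?_
      refine (Sigma.ι_desc_assoc _ _ _).trans ?_
      refine (Cofan.IsColimit.fac (isColimitInj (F := G) (J := K) (j := S) a) (famOf s.inl s.inr) f.1).trans ?_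
      simp [famOf, f.2])
    (fun s m h₁ h₂ => Cofan.IsColimit.hom_ext (isColimitInj (F := G) (J := K) (j := S) a) _ _ fun f => by
      refine Eq.trans ?_ (Cofan.IsColimit.fac (isColimitInj (F := G) (J := K) (j := S) a) (famOf s.inl s.inr) f).symm
      change injSh f a ≫ m = _
      by_cases h : f = 𝟙 S
      · subst h
        simp only [famOf, dite_true, eqToHom_refl, Category.id_comp]
        refine (Equiv.eq_symm_apply _).2 ?_
        exact (injSh_id a s.pt m).trans (congrArg (· ≫ idPush s.pt) h₁)
      · simp only [famOf, dif_neg h]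
        rw [← h₂, restInj, Sigma.ι_desc_assoc])

/-- The complement as a natural map. -/
def restMap {a a' : Sheaf (K S) (Type u)} (t : a ⟶ a') : restObj a ⟶ restObj a' :=
  Limits.Sigma.map fun f => ((FibSite.invImage G f.1).sheafPullback (Type u) (K S) (K S)).map t

lemma restInj_natural {a a' : Sheaf (K S) (Type u)} (t : a ⟶ a') :
    restMap t ≫ restInj a' =
      restInj a ≫ (FibSite.restr G K (Type u) S).map ((FibSite.extend G K (Type u) S).map t) := by
  refine Sigma.hom_ext _ _ fun f => ?_
  simp only [restMap, restInj, Sigma.ι_map_assoc, Sigma.ι_desc, Sigma.ι_desc_assoc]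
  exact injSh_natural f.1 t

lemma unit_sq (a a' : Sheaf (K S) (Type u)) (t : a ⟶ a') :
    IsPullback ((extAdj S).unit.app a) t
      ((FibSite.restr G K (Type u) S).map ((FibSite.extend G K (Type u) S).map t)) ((extAdj S).unit.app a') :=
  (((BinaryCofan.isVanKampen_iff (unitCofan a')).1 (FinitaryExtensive.vanKampen _ (isColimitUnitCofan a'))
    (unitCofan a) t (restMap t) _ ((extAdj S).unit.naturality t) (restInj_natural t)).1
      ⟨isColimitUnitCofan a⟩).1

end Decomposition

end Groth.Agent.H14FibSite
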