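import Groth.Agent.H14FibSite.Basic
import Mathlib.CategoryTheory.Functor.KanExtension.Adjunction
import Mathlib.CategoryTheory.Sites.LocallyBijective
import Mathlib.CategoryTheory.Limits.Types.Colimits

/-!
# Bicovering morphisms and extension from a fibre
-/

set_option autoImplicit false
set_option backward.isDefEq.respectTransparency false
set_option backward.isDefEq.respectTransparency.types false
set_option backward.defeqAttrib.useBackward true

universe u

open CategoryTheory CategoryTheory.Limits Opposite Pseudofunctor Pseudofunctor.CoGrothendieck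

noncomputable section

namespace Groth.Agent.H14FibSite

variable {𝒮 : Type u} [SmallCategory 𝒮] {F : Pseudofunctor (LocallyDiscrete 𝒮ᵒᵖ) Cat.{u, u}}
  {J : FibSite.Topologies F} {i : 𝒮} (R : (F.obj ⟨op i⟩)ᵒᵖ ⥤ Type u)

open scoped Classical in
/-- The retraction of a component, as a function. -/
def retrFun (V : F.obj ⟨op i⟩) (g : CostructuredArrow (ι F i).op (op ((ι F i).obj V)))
    (x : R.obj g.left) : Option (R.obj (op V)) :=
  if h : g.hom.unop.base = 𝟙 i then some (R.map (exists_eq_map (W := g.left.unop) g.hom.unop h).choose.op x)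
  else none

lemma retrFun_of_eq (V : F.obj ⟨op i⟩) (g : CostructuredArrow (ι F i).op (op ((ι F i).obj V)))
    (x : R.obj g.left) (h : V ⟶ g.left.unop) (hh : (ι F i).map h = g.hom.unop) :
    retrFun R V g x = some (R.map h.op x) := by
  have hb : g.hom.unop.base = 𝟙 i := by rw [← hh]; simp
  rw [retrFun, dif_pos hb]
  congr
  exact map_injective ((exists_eq_map (W := g.left.unop) g.hom.unop hb).choose_spec.trans hh.symm)

lemma retrFun_map (V : F.obj ⟨op i⟩) {g g' : CostructuredArrow (ι F i).op (op ((ι F i).obj V))}
    (k : g ⟶ g') (x : R.obj g.left) : retrFun R V g' (R.map k.left x) = retrFun R V g x := by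
  have w : g'.hom.unop ≫ (ι F i).map k.left.unop = g.hom.unop :=
    congrArg Quiver.Hom.unop (CostructuredArrow.w k)
  have hb : g'.hom.unop.base = g.hom.unop.base := by
    rw [← w]; simp
  by_cases h : g'.hom.unop.base = 𝟙 i
  · obtain ⟨h', hh'⟩ := exists_eq_map (W := g'.left.unop) g'.hom.unop h
    rw [retrFun_of_eq R V g' _ h' hh', retrFun_of_eq R V g x (h' ≫ k.left.unop) (by rw [Functor.map_comp, hh', w]),
      op_comp, Functor.map_comp]
    rfl
  · have h' : ¬ g.hom.unop.base = 𝟙 i := hb ▸ h
    rw [retrFun, retrFun, dif_neg h, dif_neg h']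

/-- The unit of extension is injective. -/
lemma lanUnit_injective (V : F.obj ⟨op i⟩) : Function.Injective (((ι F i).op.lanUnit.app R).app (op V)) := by
  let L := (ι F i).op
  let E : L.LeftExtension R := Functor.LeftExtension.mk _ (L.lanUnit.app R)
  have hE := Functor.isPointwiseLeftKanExtensionOfIsLeftKanExtension (L := L) (F := R)
    (L.lan.obj R) (L.lanUnit.app R) (op ((ι F i).obj V))
  let c : Cocone (CostructuredArrow.proj L (op ((ι F i).obj V)) ⋙ R) :=
    { pt := Option (R.obj (op V))
      ι := { app := fun g => TypeCat.ofHom (retrFun R V g)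
             naturality := fun g g' k => by
              ext x
              exact retrFun_map R V k x } }
  intro x y h
  let g₀ : CostructuredArrow L (op ((ι F i).obj V)) := CostructuredArrow.mk (Y := op V) (𝟙 _)
  have key : ∀ z : R.obj (op V), hE.desc c ((L.lanUnit.app R).app (op V) z) = some z := fun z => by
    have h1 := ConcreteCategory.congr_hom (hE.fac c g₀) z
    have h2 : retrFun R V g₀ z = some z := by
      refine (retrFun_of_eq R V g₀ z (𝟙 V) ((ι F i).map_id V)).trans ?_
      simp [g₀]
    refine Eq.trans ?_ (h1.trans h2)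
    change hE.desc c _ = hE.desc c ((L.lan.obj R).map (𝟙 _) ((L.lanUnit.app R).app (op V) z))
    simp only [CategoryTheory.Functor.map_id]
    rfl
  exact Option.some_injective _ ((key x).symm.trans ((congrArg _ h).trans (key y)))

/-- Sections of an extension come from the fibre. -/
lemma lanUnit_jointly_surjective (X : ∫ᶜ F) (z : ((ι F i).op.lan.obj R).obj (op X)) :
    ∃ (W : F.obj ⟨op i⟩) (g : X ⟶ (ι F i).obj W) (x : R.obj (op W)),
      ((ι F i).op.lan.obj R).map g.op (((ι F i).op.lanUnit.app R).app (op W) x) = z := by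
  obtain ⟨g, x, hx⟩ := Types.jointly_surjective_of_isColimit
    (Functor.isPointwiseLeftKanExtensionOfIsLeftKanExtension (L := (ι F i).op) (F := R)
      ((ι F i).op.lan.obj R) ((ι F i).op.lanUnit.app R) (op X)) z
  exact ⟨g.left.unop, g.hom.unop, x, hx⟩

variable (hF : FibSite.IsPreFibSite F J)

include hF in
lemma W_lan_map {R' : (F.obj ⟨op i⟩)ᵒᵖ ⥤ Type u} (u : R ⟶ R') (hu : (J i).W u) :
    (FibSite.totalTopology F J).W ((ι F i).op.lan.map u) := by
  intro G hG
  have hG' : Presheaf.IsSheaf (J i) ((ι F i).op ⋙ G) := (isSheaf_total_iff hF G).1 hG i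
  have hb := hu _ hG'
  let e := (ι F i).op.lanAdjunction (Type u)
  have h : (fun t => (ι F i).op.lan.map u ≫ t) = (e.homEquiv R G).symm ∘ (fun t => u ≫ t) ∘ e.homEquiv R' G := by
    funext t
    exact (e.homEquiv R G).eq_symm_apply.2 (Adjunction.homEquiv_naturality_left e u t)
  rw [h]
  exact (e.homEquiv R G).symm.bijective.comp (hb.comp (e.homEquiv R' G).bijective)

include hF in
lemma W_of_W_lan_map {R' : (F.obj ⟨op i⟩)ᵒᵖ ⥤ Type u} (u : R ⟶ R')
    (hu : (FibSite.totalTopology F J).W ((ι F i).op.lan.map u)) : (J i).W u := by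
  rw [GrothendieckTopology.W_iff_isLocallyBijective] at hu ⊢
  obtain ⟨hinj, hsur⟩ := hu
  let L := (ι F i).op
  have hn : ∀ {V : F.obj ⟨op i⟩} (x : R.obj (op V)),
      (L.lan.map u).app (op ((ι F i).obj V)) ((L.lanUnit.app R).app (op V) x) =
        (L.lanUnit.app R').app (op V) (u.app (op V) x) := fun {V} x =>
    (ConcreteCategory.congr_hom (NatTrans.congr_app (L.lanUnit.naturality u) (op V)) x).symm
  refine ⟨⟨fun {V} x y h => ?_⟩, ⟨fun {V} s => ?_⟩⟩
  · have h1 := hinj.equalizerSieve_mem (X := op ((ι F i).obj V.unop))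
      ((L.lanUnit.app R).app V x) ((L.lanUnit.app R).app V y)
      ((hn x).trans ((congrArg _ h).trans (hn y).symm))
    refine (J i).superset_covering ?_ ((mem_total_iff hF).1 h1)
    intro W k hk
    refine lanUnit_injective R W ?_
    exact (NatTrans.naturality_apply (L.lanUnit.app R) k.op x).trans
      (Eq.trans hk (NatTrans.naturality_apply (L.lanUnit.app R) k.op y).symm)
  · have h1 := hsur.imageSieve_mem (U := (ι F i).obj V) ((L.lanUnit.app R').app (op V) s)
    refine (J i).superset_covering ?_ ((mem_total_iff hF).1 h1)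
    intro W k ⟨z, hz⟩
    obtain ⟨W', g, x, rfl⟩ := lanUnit_jointly_surjective R ((ι F i).obj W) z
    let η := L.lanUnit.app R'
    have e1 : (L.lan.obj R').map g.op (η.app (op W') (u.app (op W') x)) =
        η.app (op W) (R'.map k.op s) := by
      rw [← hn]
      refine ((NatTrans.naturality_apply (L.lan.map u) g.op _).symm.trans hz).trans ?_
      exact (NatTrans.naturality_apply η k.op s).symm
    -- the class of the left side lies over the identity, so the arrow comes from the fibre
    have hb : g.base = 𝟙 i := by
      have hE := Functor.isPointwiseLeftKanExtensionOfIsLeftKanExtension (L := L) (F := R')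
        (L.lan.obj R') (L.lanUnit.app R') (op ((ι F i).obj W))
      let c : Cocone (CostructuredArrow.proj L (op ((ι F i).obj W)) ⋙ R') :=
        { pt := Option (R'.obj (op W))
          ι := { app := fun g => TypeCat.ofHom (retrFun R' W g)
                 naturality := fun g g' k => by
                  ext x
                  exact retrFun_map R' W k x } }
      let g₁ : CostructuredArrow L (op ((ι F i).obj W)) := CostructuredArrow.mk (Y := op W') g.op
      let g₀ : CostructuredArrow L (op ((ι F i).obj W)) := CostructuredArrow.mk (Y := op W) (𝟙 _)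
      have h0 := ConcreteCategory.congr_hom (hE.fac c g₀) (R'.map k.op s)
      have h1 := ConcreteCategory.congr_hom (hE.fac c g₁) (u.app (op W') x)
      change hE.desc c ((L.lan.obj R').map g.op (η.app (op W') (u.app (op W') x))) =
        retrFun R' W g₁ (u.app (op W') x) at h1
      change hE.desc c ((L.lan.obj R').map (𝟙 _) (η.app (op W) (R'.map k.op s))) =
        retrFun R' W g₀ (R'.map k.op s) at h0
      rw [CategoryTheory.Functor.map_id, retrFun_of_eq R' W g₀ _ (𝟙 W) ((ι F i).map_id W)] at h0
      rw [e1] at h1
      by_contra hne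
      rw [retrFun, dif_neg (show ¬ g₁.hom.unop.base = 𝟙 i from hne)] at h1
      exact Option.some_ne_none _ (h0.symm.trans h1)
    obtain ⟨g', rfl⟩ := exists_eq_map g hb
    refine ⟨R.map g'.op x, lanUnit_injective R' W ?_⟩
    rw [← e1]
    exact (congrArg (η.app (op W)) (NatTrans.naturality_apply u g'.op x)).trans
      (NatTrans.naturality_apply η g'.op (u.app (op W') x))

end Groth.Agent.H14FibSite
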