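import Groth.Agent.H14FibSite.Coextend
import Groth.Agent.H14FibSite.Lan
import Mathlib.CategoryTheory.Sites.Pullback
import Mathlib.CategoryTheory.Adjunction.Mates
import Mathlib.CategoryTheory.Limits.Preserves.Finite

/-!
# Morphisms of fibred sites and their total functors
-/

set_option autoImplicit false
set_option backward.isDefEq.respectTransparency false
set_option backward.isDefEq.respectTransparency.types false
set_option backward.defeqAttrib.useBackward true

universe u

open CategoryTheory CategoryTheory.Limits Opposite Bicategory Pseudofunctor Pseudofunctor.CoGrothendieck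
open scoped CategoryTheory.Pseudofunctor.StrongTrans

noncomputable section

namespace Groth.Agent.H14FibSite

variable {𝒮 : Type u} [SmallCategory 𝒮] {F G : Pseudofunctor (LocallyDiscrete 𝒮ᵒᵖ) Cat.{u, u}}
  (α : G ⟶ F)

/-- The fibre functor of a cartesian functor. -/
abbrev fibFun (S : 𝒮) : G.obj ⟨op S⟩ ⥤ F.obj ⟨op S⟩ := (α.app ⟨op S⟩).toFunctor

lemma map_ι (S : 𝒮) {U V : G.obj ⟨op S⟩} (r : U ⟶ V) :
    (CoGrothendieck.map α).map ((ι G S).map r) = (ι F S).map ((fibFun α S).map r) := by
  refine Pseudofunctor.CoGrothendieck.Hom.ext _ _ rfl ?_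
  simp [fibFun, CoGrothendieck.map, StrongTrans.naturality_id_hom_app, ← Functor.map_comp_assoc,
    ← Cat.Hom₂.comp_app]

/-- The total functor on a fibre. -/
def ιMapIso (S : 𝒮) : fibFun α S ⋙ ι F S ≅ ι G S ⋙ CoGrothendieck.map α :=
  NatIso.ofComponents (fun _ => Iso.refl _) (fun r =>
    (Category.comp_id _).trans ((map_ι α S r).symm.trans (Category.id_comp _).symm))

/-- The comparison of inverse images. -/
def nat {j i : 𝒮} (f : j ⟶ i) (U : G.obj ⟨op i⟩) :
    (fibFun α j).obj ((FibSite.invImage G f).obj U) ⟶ (FibSite.invImage F f).obj ((fibFun α i).obj U) :=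
  (fibFun α j).map (𝟙 _) ≫ (α.naturality f.op.toLoc).hom.toNatTrans.app U

instance {j i : 𝒮} (f : j ⟶ i) (U : G.obj ⟨op i⟩) : IsIso (nat α f U) := by
  have : IsIso ((α.naturality f.op.toLoc).hom.toNatTrans.app U) :=
    inferInstanceAs (IsIso ((Cat.Hom.toNatIso (α.naturality f.op.toLoc)).hom.app U))
  have : IsIso ((fibFun α j).map (𝟙 ((FibSite.invImage G f).obj U))) := by
    rw [CategoryTheory.Functor.map_id]; infer_instance
  exact inferInstanceAs (IsIso (_ ≫ _))

lemma map_cl {j i : 𝒮} (f : j ⟶ i) (U : G.obj ⟨op i⟩) :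
    (CoGrothendieck.map α).map (cl f U) = (ι F j).map (nat α f U) ≫ cl f ((fibFun α i).obj U) := by
  rw [factor ((CoGrothendieck.map α).map (cl f U))]
  rfl

variable {J : FibSite.Topologies F} {K : FibSite.Topologies G}

lemma preservesFiniteLimits_of_restr [∀ S : 𝒮, (ι F S).IsContinuous (J S) (FibSite.totalTopology F J)]
    {C : Type*} [Category C] (E : C ⥤ FibSite.TotSh F J (Type u))
    (hE : ∀ R : 𝒮, PreservesFiniteLimits (E ⋙ FibSite.restr F J (Type u) R)) : PreservesFiniteLimits E := by
  refine ⟨fun K _ _ => ⟨fun {D} => ⟨fun {c} hc => ⟨?_⟩⟩⟩⟩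
  refine isLimitOfReflects (sheafToPresheaf _ _) (evaluationJointlyReflectsLimits _ fun X => ?_)
  have hlim : HasLimitsOfShape K (Type u) := inferInstance
  have := (hE X.unop.base).preservesFiniteLimits K
  have hp' : PreservesLimit D (E ⋙ FibSite.restr F J (Type u) X.unop.base) := this.preservesLimit
  have h1 := isLimitOfPreserves (E ⋙ FibSite.restr F J (Type u) X.unop.base) hc
  have h2 := isLimitOfPreserves (sheafToPresheaf (J X.unop.base) (Type u)) h1
  exact isLimitOfPreserves ((evaluation (F.obj ⟨op X.unop.base⟩)ᵒᵖ (Type u)).obj (op X.unop.fiber)) h2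

lemma isContinuous_map (hF : FibSite.IsPreFibSite F J) (hG : FibSite.IsPreFibSite G K)
    (hα : ∀ S, (fibFun α S).IsContinuous (K S) (J S)) :
    (CoGrothendieck.map α).IsContinuous (FibSite.totalTopology G K) (FibSite.totalTopology F J) := by
  refine (isContinuous_total_iff hG _ _).2 fun S => ?_
  have := hα S
  have := isContinuous_ι hF S
  have := Functor.isContinuous_comp (fibFun α S) (ι F S) (K S) (J S) (FibSite.totalTopology F J)
  exact Functor.isContinuous_of_iso (ιMapIso α S) _ _

section BeckChevalley

variable [∀ S : 𝒮, (ι F S).IsContinuous (J S) (FibSite.totalTopology F J)]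
  [∀ S : 𝒮, (ι G S).IsContinuous (K S) (FibSite.totalTopology G K)]
  [∀ S : 𝒮, (fibFun α S).IsContinuous (K S) (J S)]
  [(CoGrothendieck.map α).IsContinuous (FibSite.totalTopology G K) (FibSite.totalTopology F J)]

/-- Restriction commutes with the direct image of the total functor. -/
def restrPush (S : 𝒮) (P : FibSite.TotSh F J (Type u)) :
    (FibSite.restr G K (Type u) S).obj (((CoGrothendieck.map α).sheafPushforwardContinuous (Type u)
      (FibSite.totalTopology G K) (FibSite.totalTopology F J)).obj P) ⟶
      ((fibFun α S).sheafPushforwardContinuous (Type u) (K S) (J S)).obj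
        ((FibSite.restr F J (Type u) S).obj P) :=
  ObjectProperty.homMk (Functor.whiskerRight (NatTrans.op (ιMapIso α S).hom) P.obj)

lemma restrPush_natural (S : 𝒮) {P P' : FibSite.TotSh F J (Type u)} (t : P ⟶ P') :
    (FibSite.restr G K (Type u) S).map (((CoGrothendieck.map α).sheafPushforwardContinuous (Type u)
      (FibSite.totalTopology G K) (FibSite.totalTopology F J)).map t) ≫ restrPush α S P' =
      restrPush α S P ≫ ((fibFun α S).sheafPushforwardContinuous (Type u) (K S) (J S)).map
        ((FibSite.restr F J (Type u) S).map t) := by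
  refine ObjectProperty.hom_ext _ ?_
  ext U x
  exact (NatTrans.naturality_apply t.hom ((ιMapIso α S).hom.app U.unop).op x).symm

variable (S : 𝒮) [(ι F S).IsCocontinuous (J S) (FibSite.totalTopology F J)]
  [(ι G S).IsCocontinuous (K S) (FibSite.totalTopology G K)]

/-- The comparison of direct images. -/
def theta (b : Sheaf (J S) (Type u)) :
    ((CoGrothendieck.map α).sheafPushforwardContinuous (Type u) (FibSite.totalTopology G K)
      (FibSite.totalTopology F J)).obj ((FibSite.coextend F J (Type u) S).obj b) ⟶
      (FibSite.coextend G K (Type u) S).obj (((fibFun α S).sheafPushforwardContinuous (Type u) (K S) (J S)).obj b) :=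
  ((ι G S).sheafAdjunctionCocontinuous (Type u) (K S) (FibSite.totalTopology G K)).homEquiv _ _
    (restrPush α S _ ≫ ((fibFun α S).sheafPushforwardContinuous (Type u) (K S) (J S)).map
      (((ι F S).sheafAdjunctionCocontinuous (Type u) (J S) (FibSite.totalTopology F J)).counit.app b))

lemma theta_natural {b b' : Sheaf (J S) (Type u)} (t : b ⟶ b') :
    ((CoGrothendieck.map α).sheafPushforwardContinuous (Type u) (FibSite.totalTopology G K)
      (FibSite.totalTopology F J)).map ((FibSite.coextend F J (Type u) S).map t) ≫ theta α S b' =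
      theta α S b ≫ (FibSite.coextend G K (Type u) S).map
        (((fibFun α S).sheafPushforwardContinuous (Type u) (K S) (J S)).map t) := by
  rw [theta, theta, ← Adjunction.homEquiv_naturality_left, ← Adjunction.homEquiv_naturality_right,
    ← Category.assoc, restrPush_natural, Category.assoc, Category.assoc, ← Functor.map_comp, ← Functor.map_comp]
  congr 3
  exact ((ι F S).sheafAdjunctionCocontinuous (Type u) (J S) (FibSite.totalTopology F J)).counit.naturality t

lemma theta_counit (b : Sheaf (J S) (Type u)) (W : G.obj ⟨op S⟩)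
    (z : ((ι F S).op.ran.obj b.obj).obj (op ((CoGrothendieck.map α).obj ((ι G S).obj W)))) :
    ((ι G S).op.ranCounit.app ((fibFun α S).op ⋙ b.obj)).app (op W)
        ((theta (K := K) α S b).hom.app (op ((ι G S).obj W)) z) =
      ((ι F S).op.ranCounit.app b.obj).app (op ((fibFun α S).obj W)) z := by
  let adjG := (ι G S).sheafAdjunctionCocontinuous (Type u) (K S) (FibSite.totalTopology G K)
  let adjF := (ι F S).sheafAdjunctionCocontinuous (Type u) (J S) (FibSite.totalTopology F J)
  let s := restrPush α S _ ≫ ((fibFun α S).sheafPushforwardContinuous (Type u) (K S) (J S)).map (adjF.counit.app b)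
  have h : (FibSite.restr G K (Type u) S).map (theta α S b) ≫ adjG.counit.app _ = s :=
    (adjG.homEquiv_counit (g := theta α S b)).symm.trans (Equiv.symm_apply_apply _ s)
  have eF : (adjF.counit.app b).hom = (ι F S).op.ranCounit.app b.obj :=
    ((ι F S).sheafAdjunctionCocontinuous_counit_app_hom (Type u) (J S) (FibSite.totalTopology F J) b).trans
      (congrArg (fun t => t.app b.obj) ((ι F S).op.ranAdjunction_counit (Type u)))
  have eG : ∀ a : Sheaf (K S) (Type u), (adjG.counit.app a).hom = (ι G S).op.ranCounit.app a.obj := fun a =>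
    ((ι G S).sheafAdjunctionCocontinuous_counit_app_hom (Type u) (K S) (FibSite.totalTopology G K) a).trans
      (congrArg (fun t => t.app a.obj) ((ι G S).op.ranAdjunction_counit (Type u)))
  have h₂ := congrArg (fun t => t.app (op W)) ((sheafToPresheaf _ _).congr_map h)
  have h' := ConcreteCategory.congr_hom h₂ z
  change (adjG.counit.app _).hom.app (op W) ((theta α S b).hom.app (op ((ι G S).obj W)) z) =
    (adjF.counit.app b).hom.app (op ((fibFun α S).obj W))
      (((ι F S).op.ran.obj b.obj).map ((ιMapIso α S).hom.app W).op z) at h'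
  rw [eG, eF] at h'
  refine h'.trans ?_
  congr 1
  simp [ιMapIso]
  erw [CategoryTheory.Functor.map_id]
  rfl

lemma proj_theta (b : Sheaf (J S) (Type u)) {i : 𝒮} (f : S ⟶ i) (U : G.obj ⟨op i⟩)
    (z : ((ι F S).op.ran.obj b.obj).obj (op ((CoGrothendieck.map α).obj ((ι G i).obj U)))) :
    (proj ((fibFun α S).op ⋙ b.obj) f).app (op U) ((theta (K := K) α S b).hom.app (op ((ι G i).obj U)) z) =
      b.obj.map (nat α f U).op ((proj b.obj f).app (op ((fibFun α i).obj U)) z) := by
  rw [proj_apply]
  have h1 := NatTrans.naturality_apply (theta (K := K) α S b).hom (cl f U).op z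
  refine (congrArg _ h1.symm).trans ((theta_counit (K := K) α S b _ _).trans ?_)
  let Q := (ι F S).op.ran.obj b.obj
  let ε := (ι F S).op.ranCounit.app b.obj
  change ε.app (op ((fibFun α S).obj ((FibSite.invImage G f).obj U)))
      (Q.map ((CoGrothendieck.map α).map (cl f U)).op z) =
    b.obj.map (nat α f U).op (ε.app (op ((FibSite.invImage F f).obj ((fibFun α i).obj U)))
      (Q.map (cl f ((fibFun α i).obj U)).op z))
  rw [map_cl, op_comp, Q.map_comp]
  exact NatTrans.naturality_apply ε (nat α f U).op _

lemma isIso_theta (b : Sheaf (J S) (Type u)) : IsIso (theta (K := K) α S b) := by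
  have : ∀ X : (∫ᶜ G)ᵒᵖ, IsIso ((theta (K := K) α S b).hom.app X) := by
    rintro ⟨⟨i, U⟩⟩
    rw [isIso_iff_bijective]
    refine ⟨fun z z' h => ?_, fun x => ?_⟩
    · refine (existsUnique_ran b.obj ((fibFun α i).obj U) fun f =>
        (proj b.obj f).app (op ((fibFun α i).obj U)) z').unique (fun f => ?_) fun f => rfl
      have h' := congrArg ((proj ((fibFun α S).op ⋙ b.obj) f).app (op U)) h
      exact (isIso_iff_bijective (b.obj.map (nat α f U).op)).1 inferInstance |>.1
        ((proj_theta α S b f U z).symm.trans (h'.trans (proj_theta α S b f U z')))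
    · let y : ∀ f : S ⟶ i, b.obj.obj (op ((FibSite.invImage F f).obj ((fibFun α i).obj U))) := fun f =>
        inv (b.obj.map (nat α f U).op) ((proj ((fibFun α S).op ⋙ b.obj) f).app (op U) x)
      obtain ⟨z, hz, -⟩ := existsUnique_ran b.obj ((fibFun α i).obj U) y
      refine ⟨z, (existsUnique_ran ((fibFun α S).op ⋙ b.obj) U fun f =>
        (proj ((fibFun α S).op ⋙ b.obj) f).app (op U) x).unique (fun f => ?_) fun f => rfl⟩
      refine (proj_theta α S b f U z).trans ((congrArg _ (hz f)).trans ?_)
      exact IsIso.inv_hom_id_apply (b.obj.map (nat α f U).op) _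
  have : IsIso (theta (K := K) α S b).hom := NatIso.isIso_of_isIso_app _
  have : IsIso ((sheafToPresheaf _ _).map (theta (K := K) α S b)) := this
  exact isIso_of_reflects_iso _ (sheafToPresheaf _ _)

variable [((fibFun α S).sheafPushforwardContinuous (Type u) (K S) (J S)).IsRightAdjoint]
  [((CoGrothendieck.map α).sheafPushforwardContinuous (Type u) (FibSite.totalTopology G K)
    (FibSite.totalTopology F J)).IsRightAdjoint]

/-- Inverse image along the total functor, on a fibre. -/
def pullRestrIso :
    FibSite.restr G K (Type u) S ⋙ (fibFun α S).sheafPullback (Type u) (K S) (J S) ≅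
      (CoGrothendieck.map α).sheafPullback (Type u) (FibSite.totalTopology G K) (FibSite.totalTopology F J) ⋙
        FibSite.restr F J (Type u) S :=
  let adj₁ := ((ι G S).sheafAdjunctionCocontinuous (Type u) (K S) (FibSite.totalTopology G K)).comp
    ((fibFun α S).sheafAdjunctionContinuous (Type u) (K S) (J S))
  let adj₂ := ((CoGrothendieck.map α).sheafAdjunctionContinuous (Type u) (FibSite.totalTopology G K)
    (FibSite.totalTopology F J)).comp
    ((ι F S).sheafAdjunctionCocontinuous (Type u) (J S) (FibSite.totalTopology F J))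
  let e : FibSite.coextend F J (Type u) S ⋙ (CoGrothendieck.map α).sheafPushforwardContinuous (Type u)
      (FibSite.totalTopology G K) (FibSite.totalTopology F J) ≅
      (fibFun α S).sheafPushforwardContinuous (Type u) (K S) (J S) ⋙ FibSite.coextend G K (Type u) S :=
    NatIso.ofComponents (fun b => @asIso _ _ _ _ (theta α S b) (isIso_theta α S b)) fun t => theta_natural α S t
  adj₁.leftAdjointUniq (adj₂.ofNatIsoRight e)

end BeckChevalley

end Groth.Agent.H14FibSite
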